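import Cfsg.Agent.H83.CoreKilling.Main
import Cfsg.Agent.H83.CoreKilling.Results
import Cfsg.Agent.S0205
import Cfsg.Agent.S0111
import Cfsg.Agent.S1292

/-!
Groups with solvable involution centralisers in which the centraliser of the central involutions of
a Sylow two-subgroup normalises that subgroup: basic facts.
-/

set_option autoImplicit false
set_option linter.style.haveILetI false

namespace Cfsg.Agent.H69.ZC

open Subgroup Cfsg

variable {G : Type*} [Group G] [Finite G]

local notation "θ" => centralizerPPrimeCore 2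

/-- The central involutions of a subgroup, with the identity. -/
abbrev zOne (S : Subgroup G) : Subgroup G := omegaOne 2 (S ⊓ centralizer (S : Set G))

/-- The residual of a group at two. -/
abbrev res (G : Type*) [Group G] : Subgroup G := pResidual 2 G

/-- The standing hypotheses. -/
structure Setting (G : Type*) [Group G] : Prop where
  even : Even (Nat.card G)
  solv : ∀ t : G, orderOf t = 2 → Group.IsSolvable ↥(centralizer ({t} : Set G))
  norm : ∀ S : Sylow 2 G, centralizer (zOne (S : Subgroup G) : Set G) ≤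
    normalizer ((S : Subgroup G) : Set G)
  odd : pPrimeCore 2 G = ⊥
  two : pCore 2 G = ⊥

omit [Finite G] in
theorem mem_zOne {S : Subgroup G} {x : G} :
    x ∈ zOne S ↔ x ∈ S ∧ (∀ s ∈ S, s * x = x * s) ∧ x ^ 2 = 1 := by
  constructor
  · intro hx
    induction hx using closure_induction with
    | mem y hy => exact ⟨hy.1.1, fun s hs => mem_centralizer_iff.mp hy.1.2 s hs, hy.2⟩
    | one => exact ⟨one_mem _, fun s _ => by simp, one_pow _⟩
    | mul a b _ _ ha hb =>
      refine ⟨mul_mem ha.1 hb.1, fun s hs => ?_, ?_⟩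
      · rw [← mul_assoc, ha.2.1 s hs, mul_assoc, hb.2.1 s hs, ← mul_assoc]
      · rw [Commute.mul_pow (hb.2.1 a ha.1 : Commute a b), ha.2.2, hb.2.2, one_mul]
    | inv a _ ha =>
      refine ⟨inv_mem ha.1, fun s hs => ?_, by rw [inv_pow, ha.2.2, inv_one]⟩
      exact (Commute.inv_right (ha.2.1 s hs : Commute s a)).eq
  · intro hx
    exact subset_closure ⟨⟨hx.1, mem_centralizer_iff.mpr hx.2.1⟩, hx.2.2⟩

omit [Finite G] in
theorem zOne_le (S : Subgroup G) : zOne S ≤ S := fun _ hx => (mem_zOne.mp hx).1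

omit [Finite G] in
theorem zOne_elem (S : Subgroup G) : IsElementaryAbelian 2 (zOne S) :=
  ⟨⟨⟨fun a b => Subtype.ext ((mem_zOne.mp b.2).2.1 a (zOne_le S a.2))⟩⟩,
    fun _ hx => (mem_zOne.mp hx).2.2⟩

theorem orderOf_eq_two {x : G} (hx : x ^ 2 = 1) (h1 : x ≠ 1) : orderOf x = 2 :=
  haveI : Fact (Nat.Prime 2) := ⟨Nat.prime_two⟩
  orderOf_eq_prime hx h1

omit [Finite G] in
theorem ne_one_of_orderOf {x : G} (hx : orderOf x = 2) : x ≠ 1 ∧ x ^ 2 = 1 :=
  ⟨fun h => by rw [h, orderOf_one] at hx; omega, by rw [← hx, pow_orderOf_eq_one]⟩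

omit [Finite G] in
theorem orderOf_conj (g x : G) : orderOf (g * x * g⁻¹) = orderOf x := by
  rw [← MulAut.conj_apply]; exact (MulAut.conj g).orderOf_eq x

/-- An involution lies in the Sylow subgroup up to conjugation. -/
theorem exists_conj_mem (S : Sylow 2 G) {t : G} (ht : orderOf t = 2) :
    ∃ g : G, g * t * g⁻¹ ∈ (S : Subgroup G) := by
  haveI : Fact (Nat.Prime 2) := ⟨Nat.prime_two⟩
  obtain ⟨R, hR⟩ := (H51.isPGroup_zpowers_of_orderOf (p := 2) ht).exists_le_sylow
  obtain ⟨g, hg⟩ := MulAction.exists_smul_eq G R S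
  exact ⟨g, by rw [← hg]; exact mem_map_of_mem _ (hR (mem_zpowers t))⟩

omit [Finite G] in
theorem core_conj (g t : G) : (θ t).map (MulAut.conj g).toMonoidHom = θ (g * t * g⁻¹) := by
  rw [← MulAut.conj_apply]; exact H51.centralizerPPrimeCore_map_aut 2 (MulAut.conj g) t

omit [Finite G] in
theorem core_eq_bot_conj {g t : G} (h : θ (g * t * g⁻¹) = ⊥) : θ t = ⊥ := by
  refine (map_eq_bot_iff_of_injective _ (f := (MulAut.conj g).toMonoidHom)
    (MulAut.conj g).injective).mp ?_
  rw [core_conj, h]

theorem core_odd (t : G) : Odd (Nat.card ↥(θ t)) :=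
  Nat.coprime_two_right.mp (H59.centralizerPPrimeCore_coprime 2 t)

variable (hs : Setting G)
include hs

theorem Setting.cons (t : G) (ht : orderOf t = 2) : IsPConstrained 2 ↥(centralizer ({t} : Set G)) :=
  haveI := hs.solv t ht
  H83.CoreKilling.constrained_of_solvable

theorem Setting.balance {a b : G} (ha : orderOf a = 2) (hb : orderOf b = 2) (h : a * b = b * a) :
    θ a ⊓ centralizer ({b} : Set G) ≤ θ b := by
  haveI : Fact (Nat.Prime 2) := ⟨Nat.prime_two⟩
  exact H51.core_inf_centralizer_le_of_pConstrained (H51.isPGroup_zpowers_of_orderOf ha) h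
    (hs.cons b hb)

theorem Setting.odd_mem_res {g : G} (hg : Odd (orderOf g)) : g ∈ res G :=
  have := hs.even
  subset_closure (Nat.coprime_two_right.mpr hg)

omit [Finite G] hs in
theorem res_normal (G : Type*) [Group G] : (res G).Normal :=
  H51.pPrimeCore_normal 2 G |> fun _ => ⟨fun x hx g => by
    induction hx using closure_induction with
    | mem y hy =>
      refine subset_closure ?_
      show Nat.Coprime (orderOf (g * y * g⁻¹)) 2
      rwa [← MulAut.conj_apply, MulEquiv.orderOf_eq]
    | one => simp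
    | mul a b _ _ ha hb => simpa [mul_assoc] using mul_mem ha hb
    | inv a _ ha => simpa [mul_assoc] using inv_mem ha⟩

/-- The residual has even order. -/
theorem Setting.res_even : Even (Nat.card ↥(res G)) := by
  haveI : Fact (Nat.Prime 2) := ⟨Nat.prime_two⟩
  by_contra hodd
  rw [Nat.not_even_iff_odd] at hodd
  have hbot : res G = ⊥ := le_bot_iff.mp
    ((H51.le_pPrimeCore (res_normal G) (Nat.coprime_two_right.mpr hodd)).trans hs.odd.le)
  have hG : IsPGroup 2 G := by
    intro g
    obtain ⟨k, m, hm, hk⟩ := Nat.exists_eq_two_pow_mul_odd (orderOf_pos g).ne'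
    refine ⟨k, ?_⟩
    have h1 : g ^ 2 ^ k ∈ res G := by
      refine hs.odd_mem_res (Odd.of_dvd_nat hm (orderOf_dvd_of_pow_eq_one ?_))
      rw [← pow_mul, ← hk, pow_orderOf_eq_one]
    rwa [hbot, mem_bot] at h1
  have htop : (⊤ : Subgroup G) ≤ pCore 2 G := le_sSup ⟨inferInstance, hG.to_subgroup ⊤⟩
  rw [hs.two] at htop
  have h1 : Nat.card G = 1 := by
    rw [← card_top (G := G), le_bot_iff.mp htop, card_bot]
  have := hs.even
  rw [h1] at this
  exact absurd this (by decide)

theorem Setting.exists_involution_res :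
    ∃ t : G, t ∈ res G ∧ orderOf t = 2 := by
  obtain ⟨t, h1, h2⟩ := H28.exists_involution_mem hs.res_even
  exact ⟨t, h1, h2⟩

/-- A normal subgroup has trivial intersection with the central involutions only if its Sylow part is trivial. -/
theorem Setting.exists_zOne_res (S : Sylow 2 G) :
    ∃ z ∈ zOne (S : Subgroup G), z ∈ res G ∧ z ≠ 1 := by
  haveI : Fact (Nat.Prime 2) := ⟨Nat.prime_two⟩
  haveI := res_normal G
  obtain ⟨t, htH, ht⟩ := hs.exists_involution_res
  obtain ⟨g, hg⟩ := exists_conj_mem S ht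
  have hne : (res G).subgroupOf (S : Subgroup G) ≠ ⊥ := by
    intro h
    have hm : (⟨g * t * g⁻¹, hg⟩ : ↥(S : Subgroup G)) ∈ (res G).subgroupOf (S : Subgroup G) :=
      mem_subgroupOf.mpr (Subgroup.Normal.conj_mem inferInstance t htH g)
    rw [h, mem_bot] at hm
    have h1 : g * t * g⁻¹ = 1 := congrArg Subtype.val hm
    exact (ne_one_of_orderOf ht).1 (by simpa using h1)
  obtain ⟨z, hzc, hzN, hz1⟩ := H29.exists_mem_center_of_normal S.isPGroup' hne
  have hdvd : 2 ∣ orderOf z := by
    obtain ⟨k, hk⟩ := IsPGroup.iff_orderOf.mp S.isPGroup' z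
    cases k with
    | zero => exact absurd (orderOf_eq_one_iff.mp (by simpa using hk)) hz1
    | succ j => rw [hk]; exact dvd_pow_self 2 (Nat.succ_ne_zero j)
  set y := z ^ (orderOf z / 2)
  have hy : orderOf y = 2 := orderOf_pow_orderOf_div (orderOf_pos z).ne' hdvd
  refine ⟨y, mem_zOne.mpr ⟨y.2, fun s hs' => ?_, ?_⟩, mem_subgroupOf.mp (pow_mem hzN _), ?_⟩
  · exact congrArg Subtype.val (mem_center_iff.mp (pow_mem hzc _) ⟨s, hs'⟩)
  · exact congrArg Subtype.val (ne_one_of_orderOf hy).2
  · exact fun h => (ne_one_of_orderOf hy).1 (Subtype.ext h)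

/-- The residual joined with the central involutions is normal. -/
theorem Setting.sup_normal (S : Sylow 2 G) :
    (res G ⊔ zOne (S : Subgroup G)).Normal := by
  haveI : Fact (Nat.Prime 2) := ⟨Nat.prime_two⟩
  haveI := res_normal G
  set π := QuotientGroup.mk' (res G)
  have hq : IsPGroup 2 (G ⧸ res G) := by
    intro x
    obtain ⟨g, rfl⟩ := QuotientGroup.mk'_surjective (res G) x
    obtain ⟨k, m, hm, hk⟩ := Nat.exists_eq_two_pow_mul_odd (orderOf_pos g).ne'
    refine ⟨k, ?_⟩
    rw [← map_pow, QuotientGroup.mk'_apply, QuotientGroup.eq_one_iff]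
    refine hs.odd_mem_res (Odd.of_dvd_nat hm (orderOf_dvd_of_pow_eq_one ?_))
    rw [← pow_mul, ← hk, pow_orderOf_eq_one]
  set Sq := S.mapSurjective (QuotientGroup.mk'_surjective (res G))
  have htop : (Sq : Subgroup (G ⧸ res G)) = ⊤ :=
    eq_top_iff.mpr (IsPGroup.le_sylow_of_normal (hq.to_subgroup ⊤) Sq)
  refine ⟨fun x hx g => ?_⟩
  have hg : π g ∈ (S : Subgroup G).map π := by
    have : π g ∈ (Sq : Subgroup (G ⧸ res G)) := htop ▸ mem_top _
    exact this
  obtain ⟨s, hsS, hsg⟩ := hg
  have hh : g * s⁻¹ ∈ res G := by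
    rw [← QuotientGroup.eq_one_iff, QuotientGroup.mk_mul, QuotientGroup.mk_inv]
    exact mul_inv_eq_one.mpr hsg.symm
  set X := res G ⊔ zOne (S : Subgroup G)
  have hs1 : s * x * s⁻¹ ∈ X := by
    have hle : X ≤ X.comap (MulAut.conj s).toMonoidHom := by
      refine sup_le (fun y hy => mem_sup_left (Subgroup.Normal.conj_mem inferInstance y hy s))
        (fun y hy => mem_sup_right ?_)
      show s * y * s⁻¹ ∈ zOne (S : Subgroup G)
      rw [(mem_zOne.mp hy).2.1 s hsS, mul_inv_cancel_right]
      exact hy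
    exact hle hx
  have h2 := X.mul_mem (X.mul_mem (mem_sup_left hh) hs1) (X.inv_mem (mem_sup_left hh))
  rwa [show g * s⁻¹ * (s * x * s⁻¹) * (g * s⁻¹)⁻¹ = g * x * g⁻¹ by group] at h2

/-- Trivial cores give characteristic two type. -/
theorem Setting.charTwo (S : Sylow 2 G)
    (h : ∀ t : G, orderOf t = 2 → t ∈ res G ⊔ zOne (S : Subgroup G) → θ t = ⊥) :
    IsCharacteristicTwoType ↥(res G ⊔ zOne (S : Subgroup G)) := by
  haveI : Fact (Nat.Prime 2) := ⟨Nat.prime_two⟩
  haveI := hs.sup_normal S
  set X := res G ⊔ zOne (S : Subgroup G) with hX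
  have hF : ∀ t : ↥X, orderOf t = 2 → generalizedFittingSubgroup ↥(centralizer ({t} : Set ↥X)) =
      pCore 2 ↥(centralizer ({t} : Set ↥X)) := by
    intro t ht
    have ht' : orderOf (t : G) = 2 := by rw [Subgroup.orderOf_coe]; exact ht
    set C := centralizer ({(t : G)} : Set G) with hC
    set D := centralizer ({t} : Set ↥X) with hD
    haveI := hs.solv (t : G) ht'
    have hDC : ∀ d : ↥D, ((d : ↥X) : G) ∈ C := fun d => mem_centralizer_singleton_iff.mpr
      (congrArg Subtype.val (mem_centralizer_singleton_iff.mp d.2))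
    let f : ↥D →* ↥C :=
      { toFun := fun d => ⟨((d : ↥X) : G), hDC d⟩
        map_one' := rfl
        map_mul' := fun _ _ => rfl }
    have hf : Function.Injective f := fun a b e =>
      Subtype.ext (Subtype.ext (congrArg (fun c : ↥C => (c : G)) e))
    haveI : Group.IsSolvable ↥D := solvable_of_solvable_injective hf
    refine H51.generalizedFitting_eq_pCore ?_
      (H51.isPConstrained_iff_pLayer_eq_bot.mp H83.CoreKilling.constrained_of_solvable)
    set O := pPrimeCore 2 ↥D
    haveI : O.Normal := H51.pPrimeCore_normal 2 ↥D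
    have hN : (O.map f).Normal := by
      refine ⟨fun c hc g => ?_⟩
      obtain ⟨d, hd, rfl⟩ := hc
      have hgX : ∀ x : G, x ∈ X → (g : G) * x * (g : G)⁻¹ ∈ X := fun x hx =>
        Subgroup.Normal.conj_mem inferInstance x hx g
      have hgX' : ∀ x : G, x ∈ X → (g : G)⁻¹ * x * (g : G) ∈ X := fun x hx => by
        simpa using Subgroup.Normal.conj_mem (H := X) inferInstance x hx (g : G)⁻¹
      have hgt : (g : G) * t = t * g := mem_centralizer_singleton_iff.mp g.2
      let φ : ↥D →* ↥D :=
        { toFun := fun d => ⟨⟨(g : G) * ((d : ↥X) : G) * (g : G)⁻¹, hgX _ (d : ↥X).2⟩,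
            mem_centralizer_singleton_iff.mpr (Subtype.ext (by
              have h1 : ((d : ↥X) : G) * t = t * ((d : ↥X) : G) :=
                congrArg Subtype.val (mem_centralizer_singleton_iff.mp d.2)
              have h2 : (g : G)⁻¹ * t = t * (g : G)⁻¹ := ((show Commute (g : G) t from hgt).inv_left).eq
              show (g : G) * (d : ↥X) * (g : G)⁻¹ * t = t * ((g : G) * (d : ↥X) * (g : G)⁻¹)
              rw [mul_assoc, h2, ← mul_assoc, mul_assoc (g : G), h1, ← mul_assoc, hgt]
              group))⟩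
          map_one' := by ext; simp
          map_mul' := fun a b => by ext; simp [mul_assoc] }
      have hφi : Function.Injective φ := fun a b e => by
        have := congrArg (fun c : ↥D => ((c : ↥X) : G)) e
        exact Subtype.ext (Subtype.ext (mul_left_cancel (mul_right_cancel this)))
      have hle : O.map φ ≤ O := by
        refine H51.le_pPrimeCore ?_ ?_
        · exact Subgroup.Normal.map inferInstance φ (Finite.surjective_of_injective hφi)
        · rw [card_map_of_injective hφi]; exact H51.pPrimeCore_coprime 2 ↥D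
      exact ⟨φ d, hle (mem_map_of_mem φ hd), Subtype.ext rfl⟩
    have hle : O.map f ≤ pPrimeCore 2 ↥C := by
      refine H51.le_pPrimeCore hN ?_
      rw [card_map_of_injective hf]
      exact H51.pPrimeCore_coprime 2 ↥D
    have hbot : pPrimeCore 2 ↥C = ⊥ :=
      (map_eq_bot_iff_of_injective _ C.subtype_injective).mp (h t ht' t.2)
    rw [hbot, le_bot_iff] at hle
    exact (map_eq_bot_iff_of_injective O hf).mp hle
  refine ⟨?_, fun T hT hT1 => H52.charP_iff_generalizedFitting.mpr (S1292.result hF T hT hT1)⟩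
  obtain ⟨t, htH, ht⟩ := hs.exists_involution_res
  rw [even_iff_two_dvd, ← ht]
  exact orderOf_dvd_natCard X (mem_sup_left htH)

/-- Strong embedding passes to the residual, given fusion control of its involutions. -/
theorem Setting.stronglyEmbedded (S : Sylow 2 G) {M : Subgroup G} (hM : M ≠ ⊤)
    (hSM : (S : Subgroup G) ≤ M)
    (hfus : ∀ r : G, r ∈ res G → r ∈ M → orderOf r = 2 → ∀ g : G, g⁻¹ * r * g ∈ M → g ∈ M) :
    ∃ K : Subgroup ↥(res G), IsStronglyEmbedded K := by
  haveI := res_normal G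
  obtain ⟨t, htH, ht⟩ := hs.exists_involution_res
  obtain ⟨g, hg⟩ := exists_conj_mem S ht
  set r := g * t * g⁻¹ with hr
  have hrH : r ∈ res G := Subgroup.Normal.conj_mem inferInstance t htH g
  have hr2 : orderOf r = 2 := (orderOf_conj g t).trans ht
  have hne : M.subgroupOf (res G) ≠ ⊤ := by
    intro h
    rw [subgroupOf_eq_top] at h
    refine hM (eq_top_iff.mpr fun k _ => hfus r hrH (hSM hg) hr2 k (h ?_))
    simpa using Subgroup.Normal.conj_mem (inferInstance : (res G).Normal) r hrH k⁻¹
  have heven : Even (Nat.card ↥(M.subgroupOf (res G))) := by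
    rw [even_iff_two_dvd, ← hr2,
      show orderOf r = orderOf (⟨r, hrH⟩ : ↥(res G)) from Subgroup.orderOf_coe (⟨r, hrH⟩ : ↥(res G))]
    exact orderOf_dvd_natCard _ (mem_subgroupOf.mpr (hSM hg))
  refine ⟨M.subgroupOf (res G), (H28.isStronglyEmbedded_iff_mem hne heven).mpr ?_⟩
  intro s hsM hs2 k hk
  refine mem_subgroupOf.mpr (hfus (s : G) s.2 (mem_subgroupOf.mp hsM) ?_ (k : G) ?_)
  · rw [Subgroup.orderOf_coe]; exact hs2
  · exact mem_subgroupOf.mp hk

/-- An involution of the residual outside a subgroup of index two of the Sylow subgroup fuses into it. -/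
theorem Setting.fuse (S : Sylow 2 G) {Q : Subgroup G} (hQ : Q ≤ (S : Subgroup G))
    (hQi : Q.relIndex (S : Subgroup G) = 2) {u : G} (hu : orderOf u = 2)
    (huS : u ∈ (S : Subgroup G)) (huH : u ∈ res G) : ∃ g : G, g * u * g⁻¹ ∈ Q := by
  by_cases huQ : u ∈ Q
  · exact ⟨1, by simpa using huQ⟩
  refine (S0111.result S Q hQ hQi u hu huS huQ).resolve_left ?_
  rintro ⟨M, hMn, hMi, huM⟩
  refine huM ((closure_le _).mpr ?_ huH)
  intro x hx
  have hx' : Odd (orderOf x) := Nat.coprime_two_right.mp hx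
  haveI := hMn
  rw [SetLike.mem_coe, ← QuotientGroup.eq_one_iff, ← orderOf_eq_one_iff]
  have h1 : orderOf (x : G ⧸ M) ∣ orderOf x := orderOf_map_dvd (QuotientGroup.mk' M) x
  have h2 : orderOf (x : G ⧸ M) ∣ 2 := hMi ▸ orderOf_dvd_natCard _
  exact Nat.dvd_one.mp ((Nat.coprime_two_right.mpr hx') ▸ Nat.dvd_gcd h1 h2)

end Cfsg.Agent.H69.ZC
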