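import Cfsg.Agent.H69.ZC.Basic

/-!
Centralisers of involutions inside large elementary abelian subgroups normalise the common closure.
-/

set_option autoImplicit false
set_option linter.style.haveILetI false
set_option linter.unusedSectionVars false

namespace Cfsg.Agent.H69.ZC

open Subgroup Cfsg

variable {G : Type*} [Group G] [Finite G]

local notation "θ" => centralizerPPrimeCore 2

theorem big_of_comm {A B : Subgroup G} (hA : IsKleinFour A) (hB : IsElementaryAbelian 2 B)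
    (h : ∀ a ∈ A, ∀ b ∈ B, a * b = b * a) (hne : ¬ B ≤ A) :
    IsElementaryAbelian 2 (A ⊔ B) ∧ 2 ^ 3 ≤ Nat.card ↥(A ⊔ B) := by
  have he : IsElementaryAbelian 2 (A ⊔ B) := H51.elem_sup (H83.CoreKilling.elem_of_klein hA) hB h
  refine ⟨he, H51.two_pow_le_card_of_lt (k := 2) he ?_⟩
  by_contra hlt
  refine hne (le_sup_right.trans (eq_of_le_of_card_ge (le_sup_left : A ≤ A ⊔ B) ?_).ge)
  rw [hA.card_four]; omega

/-- Centralisers of involutions inside large elementary abelian subgroups normalise `W`. -/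
theorem Setting.centralizer_le (hs : Setting G) (S : Sylow 2 G) {W : Subgroup G}
    (hg : ∀ g : G, ∀ U A B : Subgroup G, IsKleinFour U → U ≤ A → A ≤ (S : Subgroup G) →
      IsElementaryAbelian 2 A → 2 ^ 3 ≤ Nat.card A → U.map (MulAut.conj g).toMonoidHom ≤ B →
      B ≤ (S : Subgroup G) → IsElementaryAbelian 2 B → 2 ^ 3 ≤ Nat.card B →
      g ∈ normalizer (W : Set G))
    (hSN : (S : Subgroup G) ≤ normalizer (W : Set G)) {t : G} (ht2 : orderOf t = 2)
    {U A : Subgroup G} (htU : t ∈ U) (hU : IsKleinFour U) (hUA : U ≤ A)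
    (hAS : A ≤ (S : Subgroup G)) (hA : IsElementaryAbelian 2 A) (hA8 : 2 ^ 3 ≤ Nat.card A)
    (htW : θ t ≤ W) :
    centralizer ({t} : Set G) ≤ normalizer (W : Set G) := by
  haveI : Fact (Nat.Prime 2) := ⟨Nat.prime_two⟩
  set M := normalizer (W : Set G) with hM
  set C := centralizer ({t} : Set G) with hC
  have hAC : A ≤ C := fun a ha => mem_centralizer_singleton_iff.mpr (H52.elem_comm hA ha (hUA htU))
  obtain ⟨P, hP⟩ := ((H52.elem_isPGroup (p := 2) hA).comap_subtype (K := C)).exists_le_sylow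
  set P' : Subgroup G := (P : Subgroup ↥C).map C.subtype with hP'
  obtain ⟨R, hR⟩ := (P.isPGroup'.map C.subtype).exists_le_sylow
  obtain ⟨g, hgR⟩ := MulAction.exists_smul_eq G R S
  have hAP : A ≤ P' := fun a ha => ⟨⟨a, hAC ha⟩, hP (mem_subgroupOf.mpr ha), rfl⟩
  have hgP : ∀ x ∈ P', g * x * g⁻¹ ∈ (S : Subgroup G) := fun x hx => by
    rw [← hgR]
    exact mem_map_of_mem _ (hR hx)
  have hgAS : A.map (MulAut.conj g).toMonoidHom ≤ (S : Subgroup G) := by
    rintro _ ⟨u, hu, rfl⟩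
    exact hgP u (hAP hu)
  have hgM : g ∈ M := hg g U A _ hU hUA hAS hA hA8 (map_mono hUA) hgAS
    (H34.isElementaryAbelian_map hA _)
    (by rw [card_map_of_injective (MulAut.conj g).injective]; exact hA8)
  have hPM : P' ≤ M := fun x hx => by
    have h := M.mul_mem (M.mul_mem (M.inv_mem hgM) (hSN (hgP x hx))) hgM
    rwa [show g⁻¹ * (g * x * g⁻¹) * g = x by group] at h
  set t' := g * t * g⁻¹ with ht'def
  by_cases hz : ∀ z ∈ zOne (S : Subgroup G), z ≠ 1 → z = t'
  · intro c hc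
    have hc' : g * c * g⁻¹ ∈ normalizer ((S : Subgroup G) : Set G) := by
      refine hs.norm S (mem_centralizer_iff.mpr fun z hzm => ?_)
      by_cases hz1 : z = 1
      · simp [hz1]
      rw [hz z hzm hz1, ht'def]
      calc g * t * g⁻¹ * (g * c * g⁻¹) = g * (t * c) * g⁻¹ := by group
        _ = g * (c * t) * g⁻¹ := by rw [mem_centralizer_singleton_iff.mp hc]
        _ = g * c * g⁻¹ * (g * t * g⁻¹) := by group
    have h1 : g * c * g⁻¹ * g ∈ M := by
      refine hg _ U A (A.map (MulAut.conj (g * c * g⁻¹ * g)).toMonoidHom) hU hUA hAS hA hA8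
        (map_mono hUA) ?_ (H34.isElementaryAbelian_map hA _)
        (by rw [card_map_of_injective (MulAut.conj _).injective]; exact hA8)
      rintro _ ⟨u, hu, rfl⟩
      have h2 := (mem_normalizer_iff.mp hc' (g * u * g⁻¹)).mp (hgAS (mem_map_of_mem _ hu))
      simpa [mul_assoc] using h2
    have h3 := M.mul_mem (M.inv_mem hgM) h1
    rwa [show g⁻¹ * (g * c * g⁻¹ * g) = c by group] at h3
  push Not at hz
  obtain ⟨z, hzm, hz1, hzt⟩ := hz
  obtain ⟨hzS, hzc, hz2⟩ := mem_zOne.mp hzm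
  -- the constrained structure
  set O := pPrimeCore 2 ↥C with hO
  haveI : O.Normal := H51.pPrimeCore_normal 2 ↥C
  set q := QuotientGroup.mk' O with hq
  haveI := pCore_normal 2 (↥C ⧸ O)
  set Qb := pCore 2 (↥C ⧸ O) with hQb
  have hQb2 : IsPGroup 2 ↥Qb := H16.isPGroup_pCore
  have hcent : centralizer (Qb : Set (↥C ⧸ O)) ≤ Qb :=
    H51.isPConstrained_iff_centralizer_pCore_le.mp (hs.cons t ht2)
  set K := Qb.comap q with hK
  haveI : K.Normal := Normal.comap inferInstance q
  have hsurj : Function.Surjective q := QuotientGroup.mk'_surjective O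
  set Q := (P : Subgroup ↥C) ⊓ K with hQ
  have hOM : ∀ o ∈ O, ((o : ↥C) : G) ∈ M := fun o ho => le_normalizer (htW (mem_map_of_mem _ ho))
  -- `P` maps onto a Sylow subgroup of the quotient, so `Q` maps onto `Qb`
  set Pq : Sylow 2 (↥C ⧸ O) := P.mapSurjective hsurj with hPq
  have hQbP : Qb ≤ (Pq : Subgroup (↥C ⧸ O)) := hQb2.le_sylow_of_normal Pq
  have hQmap : Q.map q = Qb := by
    refine le_antisymm ((map_mono inf_le_right).trans (map_comap_le _ _)) fun y hy => ?_
    have hy' : y ∈ (P : Subgroup ↥C).map q := hQbP hy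
    obtain ⟨x, hx, rfl⟩ := hy'
    exact ⟨x, ⟨hx, hy⟩, rfl⟩
  have hKQ : K = Q ⊔ O := by
    rw [hK, ← hQmap, comap_map_eq, QuotientGroup.ker_mk']
  have hQM : ∀ x ∈ Q, ((x : ↥C) : G) ∈ M := fun x hx => hPM (mem_map_of_mem _ hx.1)
  have hOMs : O ≤ M.subgroupOf C := fun o ho => mem_subgroupOf.mpr (hOM o ho)
  have hQMs : Q ≤ M.subgroupOf C := fun x hx => mem_subgroupOf.mpr (hQM x hx)
  have hKM : K ≤ M.subgroupOf C := hKQ ▸ sup_le hQMs hOMs
  have hdisj : ∀ X : Subgroup ↥C, IsPGroup 2 ↥X → ∀ x ∈ X, q x = 1 → x = 1 := by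
    intro X hX x hx hx1
    rw [hq, QuotientGroup.mk'_apply, QuotientGroup.eq_one_iff] at hx1
    exact Subgroup.mem_bot.mp
      ((H51.disjoint_of_pgroup_coprime hX (H51.pPrimeCore_coprime 2 ↥C)).le_bot ⟨hx, hx1⟩)
  suffices hN : normalizer (Q : Set ↥C) ≤ M.subgroupOf C by
    have hfr : normalizer (Q : Set ↥C) ⊔ K = ⊤ := by
      have hQK : Q ≤ K := inf_le_right
      obtain ⟨Qs, hQs⟩ := ((P.isPGroup'.to_le (inf_le_left : Q ≤ _)).comap_subtype (K := K)).exists_le_sylow
      set R' : Subgroup ↥C := (Qs : Subgroup ↥K).map K.subtype with hR'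
      have hQR : Q ≤ R' := fun x hx => ⟨⟨x, hx.2⟩, hQs (mem_subgroupOf.mpr hx), rfl⟩
      have hR2 : IsPGroup 2 ↥R' := Qs.isPGroup'.map _
      let f : ↥R' → ↥Qb := fun x => ⟨q x, map_subtype_le (Qs : Subgroup ↥K) x.2⟩
      have hf : Function.Injective f := by
        intro x y hxy
        have h : q ((x : ↥C)⁻¹ * y) = 1 := by
          rw [map_mul, map_inv, inv_mul_eq_one]; exact congrArg Subtype.val hxy
        exact Subtype.ext (inv_mul_eq_one.mp (hdisj R' hR2 _ (mul_mem (inv_mem x.2) y.2) h))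
      have hcard : Nat.card R' ≤ Nat.card Q := by
        refine (Nat.card_le_card_of_injective f hf).trans ?_
        rw [← hQmap]
        exact Nat.le_of_dvd Nat.card_pos (card_map_dvd _ _)
      have h := Sylow.normalizer_sup_eq_top Qs
      rwa [← hR', ← eq_of_le_of_card_ge hQR hcard] at h
    intro c hc
    exact mem_subgroupOf.mp ((sup_le hN hKM) (hfr ▸ mem_top (⟨c, hc⟩ : ↥C)))
  intro n hn
  rw [mem_subgroupOf]
  -- the second involution
  set y := g⁻¹ * z * g with hy
  have hgy : g * y * g⁻¹ = z := by rw [hy]; group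
  have htP : t ∈ P' := hAP (hUA htU)
  have hyc : ∀ x ∈ P', x * y = y * x := by
    intro x hx
    calc x * y = g⁻¹ * (g * x * g⁻¹ * z) * g := by rw [hy]; group
      _ = g⁻¹ * (z * (g * x * g⁻¹)) * g := by rw [hzc _ (hgP x hx)]
      _ = y * x := by rw [hy]; group
  have hyC : y ∈ C := mem_centralizer_singleton_iff.mpr (hyc t htP).symm
  have hy2 : y ^ 2 = 1 := by
    have h : (g * y * g⁻¹) ^ 2 = 1 := by rw [hgy, hz2]
    rw [conj_pow] at h
    exact (mul_inv_eq_one.mp h) |> (fun h' => by simpa using h')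
  have hy1 : y ≠ 1 := fun h => hz1 (by rw [← hgy, h]; group)
  have hyt : y ≠ t := fun h => hzt (by rw [← hgy, h])
  set yc : ↥C := ⟨y, hyC⟩
  have hycP : ∀ x ∈ (P : Subgroup ↥C), x * yc = yc * x := fun x hx =>
    Subtype.ext (hyc _ (mem_map_of_mem _ hx))
  have hyP : yc ∈ (P : Subgroup ↥C) := by
    have h2 : IsPGroup 2 ↥((P : Subgroup ↥C) ⊔ zpowers yc) := by
      refine P.isPGroup'.to_sup_of_normal_left' (?_ : IsPGroup 2 ↥(zpowers yc)) ?_
      · exact H51.isPGroup_zpowers_of_orderOf (p := 2) (orderOf_eq_two (Subtype.ext hy2)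
          fun h => hy1 (congrArg Subtype.val h))
      · rw [zpowers_le, mem_normalizer_iff]
        intro x
        refine ⟨fun hx => by rw [← hycP x hx, mul_inv_cancel_right]; exact hx, fun hx => ?_⟩
        have h := hycP _ hx
        have : yc * x * yc⁻¹ = x := by
          have := congrArg (fun w => yc⁻¹ * w) h
          simpa [mul_assoc] using this.symm
        rwa [this] at hx
    rw [← P.3 h2 le_sup_left]
    exact mem_sup_right (mem_zpowers yc)
  have hyK : yc ∈ K := by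
    refine hcent (mem_centralizer_iff.mpr fun w hw => ?_)
    rw [SetLike.mem_coe, ← hQmap] at hw
    obtain ⟨x, hx, rfl⟩ := hw
    rw [← map_mul, ← map_mul, hycP x hx.1]
  have hyQ : yc ∈ Q := ⟨hyP, hyK⟩
  have hyP' : y ∈ P' := ⟨yc, hyP, rfl⟩
  have hty : t * y = y * t := hyc t htP
  set V := H29.fourSubgroup t y (ne_one_of_orderOf ht2).2 hy2 hty
  have hV : IsKleinFour V :=
    H29.isKleinFour_fourSubgroup (ne_one_of_orderOf ht2).1 hy1 (Ne.symm hyt)
  have hVe := H83.CoreKilling.elem_of_klein hV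
  have hVP : V ≤ P' := fun x hx => by
    rcases H29.mem_fourSubgroup.mp hx with rfl | rfl | rfl | rfl
    exacts [one_mem _, htP, hyP', mul_mem htP hyP']
  have htc' : ∀ x ∈ P', x * t = t * x := fun x hx =>
    mem_centralizer_singleton_iff.mp (map_subtype_le _ hx)
  have hVc : ∀ v ∈ V, ∀ x ∈ P', v * x = x * v := by
    intro v hv x hx
    rcases H29.mem_fourSubgroup.mp hv with rfl | rfl | rfl | rfl
    exacts [by simp, (htc' x hx).symm, (hyc x hx).symm,
      (Commute.mul_left (htc' x hx).symm (hyc x hx).symm).eq]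
  have hA1 : IsElementaryAbelian 2 (A ⊔ V) :=
    H51.elem_sup hA hVe fun a ha v hv => (hVc v hv a (hAP ha)).symm
  have hA18 : 2 ^ 3 ≤ Nat.card ↥(A ⊔ V) := le_trans hA8 (card_le_of_le le_sup_left)
  -- the image of the four-group
  have hnV : V.map (MulAut.conj (n : G)).toMonoidHom ≤ P' := by
    rintro _ ⟨v, hv, rfl⟩
    have htQ : (⟨t, mem_centralizer_singleton_iff.mpr rfl⟩ : ↥C) ∈ Q := by
      refine ⟨hP (mem_subgroupOf.mpr (hUA htU)), hcent (mem_centralizer_iff.mpr fun w hw => ?_)⟩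
      obtain ⟨x, rfl⟩ := hsurj w
      rw [← map_mul, ← map_mul]
      exact congrArg q (Subtype.ext (mem_centralizer_singleton_iff.mp x.2))
    have hvQ : ∃ x ∈ Q, ((x : ↥C) : G) = v := by
      rcases H29.mem_fourSubgroup.mp hv with rfl | rfl | rfl | rfl
      exacts [⟨1, one_mem _, rfl⟩, ⟨_, htQ, rfl⟩, ⟨_, hyQ, rfl⟩, ⟨_, mul_mem htQ hyQ, rfl⟩]
    obtain ⟨x, hx, rfl⟩ := hvQ
    exact ⟨n * x * n⁻¹, ((mem_normalizer_iff.mp hn x).mp hx).1, by simp⟩
  set V' := V.map (MulAut.conj (n : G)).toMonoidHom with hV'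
  have hB : IsElementaryAbelian 2 (A ⊔ V) := hA1
  have hgmap : ∀ X : Subgroup G, X ≤ P' → X.map (MulAut.conj g).toMonoidHom ≤ (S : Subgroup G) := by
    rintro X hX _ ⟨x, hx, rfl⟩
    exact hgP x (hX hx)
  have hkey : ∀ B : Subgroup G, V' ≤ B → B ≤ P' → IsElementaryAbelian 2 B → 2 ^ 3 ≤ Nat.card B →
      (n : G) ∈ M := by
    intro B hVB hBP hBe hB8
    have h2 : g * n * g⁻¹ ∈ M := by
      refine hg _ (V.map (MulAut.conj g).toMonoidHom) ((A ⊔ V).map (MulAut.conj g).toMonoidHom)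
        (B.map (MulAut.conj g).toMonoidHom) (H29.isKleinFour_map _ (MulAut.conj g).injective hV)
        (map_mono le_sup_right) (hgmap _ (sup_le hAP hVP)) (H34.isElementaryAbelian_map hA1 _)
        (by rw [card_map_of_injective (MulAut.conj g).injective]; exact hA18) ?_ (hgmap _ hBP)
        (H34.isElementaryAbelian_map hBe _)
        (by rw [card_map_of_injective (MulAut.conj g).injective]; exact hB8)
      rintro _ ⟨_, ⟨v, hv, rfl⟩, rfl⟩
      refine ⟨n * v * (n : G)⁻¹, hVB ⟨v, hv, rfl⟩, ?_⟩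
      simp [mul_assoc]
    have h := M.mul_mem (M.mul_mem (M.inv_mem hgM) h2) hgM
    rwa [show g⁻¹ * (g * n * g⁻¹) * g = (n : G) by group] at h
  have hV'k : IsKleinFour V' := H29.isKleinFour_map _ (MulAut.conj (n : G)).injective hV
  by_cases hVV : V' ≤ V
  · exact hkey _ (hVV.trans le_sup_right) (sup_le hAP hVP) hA1 hA18
  · have hbig := big_of_comm hV (H83.CoreKilling.elem_of_klein hV'k)
      (fun a ha b hb => hVc a ha b (hnV hb)) hVV
    exact hkey _ le_sup_right (sup_le hVP hnV) hbig.1 hbig.2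

end Cfsg.Agent.H69.ZC
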