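import Cfsg.Agent.H69.ZC.Basic
import Cfsg.Agent.S0112
import Cfsg.Agent.S0113

/-!
A central involution which is not weakly closed in its Sylow two-subgroup, in rank two.
-/

set_option autoImplicit false
set_option linter.style.haveILetI false

namespace Cfsg.Agent.H69.ZC

open Subgroup Cfsg

variable {G : Type*} [Group G] [Finite G]

omit [Finite G] in
/-- A two-element normalising a Sylow two-subgroup lies in it. -/
theorem mem_of_mem_normalizer {S : Sylow 2 G} {c : G} (hc : IsPGroup 2 ↥(zpowers c))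
    (hn : c ∈ normalizer ((S : Subgroup G) : Set G)) : c ∈ (S : Subgroup G) := by
  have h1 : IsPGroup 2 ↥(zpowers c ⊔ (S : Subgroup G)) :=
    hc.to_sup_of_normal_right' S.isPGroup' ((zpowers_le).mpr hn)
  have h2 : zpowers c ⊔ (S : Subgroup G) = (S : Subgroup G) := S.3 h1 le_sup_right
  exact h2 ▸ mem_sup_left (mem_zpowers c)

omit [Finite G] in
/-- Elements of a two-subgroup are two-elements. -/
theorem isPGroup_zpowers_of_mem {S : Subgroup G} (hS : IsPGroup 2 ↥S) {c : G} (hc : c ∈ S) :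
    IsPGroup 2 ↥(zpowers c) :=
  hS.to_le ((zpowers_le).mpr hc)

omit [Finite G] in
theorem eq_of_mul_self {a : G} (h : a ^ 2 = 1) : a⁻¹ = a :=
  inv_eq_of_mul_eq_one_right (by rw [← pow_two]; exact h)

/-- The normalizer condition inside a two-subgroup. -/
theorem exists_normalizing_outside {P Q : Subgroup G} (hP : IsPGroup 2 ↥P) (hQP : Q < P) :
    ∃ x ∈ P, x ∉ Q ∧ ∀ q ∈ Q, x * q * x⁻¹ ∈ Q := by
  haveI : Fact (Nat.Prime 2) := ⟨Nat.prime_two⟩
  haveI : Group.IsNilpotent ↥P := hP.isNilpotent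
  have hlt : Q.subgroupOf P < ⊤ := lt_top_iff_ne_top.mpr (by
    rw [Ne, subgroupOf_eq_top]; exact fun h => hQP.not_ge h)
  obtain ⟨x, hx, hxQ⟩ := SetLike.exists_of_lt (Group.normalizerCondition_of_isNilpotent _ hlt)
  refine ⟨x, x.2, fun h => hxQ (mem_subgroupOf.mpr h), fun q hq => ?_⟩
  have := (mem_normalizer_iff.mp hx ⟨q, hQP.le hq⟩).mp (mem_subgroupOf.mpr hq)
  exact mem_subgroupOf.mp this

variable (hs : Setting G)
include hs

/-- A conjugate of a central involution inside the Sylow subgroup in rank two. -/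
theorem Setting.pair (S : Sylow 2 G) {z s k : G}
    (hZ : ∀ w, w ∈ zOne (S : Subgroup G) ↔ w = 1 ∨ w = z) (hz1 : z ≠ 1) (hk : k * z * k⁻¹ = s)
    (hsS : s ∈ (S : Subgroup G)) (hsz : s ≠ z)
    (hinv : ∀ u ∈ (S : Subgroup G), u * s = s * u → u ^ 2 = 1 →
      u = 1 ∨ u = z ∨ u = s ∨ u = z * s) :
    (∃ x : G, x * z * x⁻¹ = z * s) ∧
      ∀ Q0 : Subgroup G, Q0 ≤ (S : Subgroup G) ⊓ centralizer {s} →
        Q0.relIndex ((S : Subgroup G) ⊓ centralizer {s}) = 2 → s ∉ Q0 →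
        Nat.card ↥((S : Subgroup G) ⊓ centralizer ({s} : Set G)) = 4 := by
  haveI : Fact (Nat.Prime 2) := ⟨Nat.prime_two⟩
  obtain ⟨hzS, hzc, hz2⟩ := mem_zOne.mp ((hZ z).mpr (Or.inr rfl))
  have hzs : z * s = s * z := (hzc s hsS).symm
  have hs2 : s ^ 2 = 1 := by rw [← hk, conj_pow, hz2]; group
  have hs1 : s ≠ 1 := fun h => hz1 (by
    have : z = k⁻¹ * s * k := by rw [← hk]; group
    rw [this, h]; group)
  have hcS : ∀ c : G, IsPGroup 2 ↥(zpowers c) → c * z = z * c → c ∈ (S : Subgroup G) := by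
    intro c hc hcz
    refine mem_of_mem_normalizer hc (hs.norm S (mem_centralizer_iff.mpr fun w hw => ?_))
    rcases (hZ w).mp hw with rfl | rfl
    · simp
    · exact hcz.symm
  set S' : Subgroup G := (S : Subgroup G).map (MulAut.conj k).toMonoidHom with hS'
  have hS'p : IsPGroup 2 ↥S' := S.isPGroup'.map _
  have hS'c : ∀ c ∈ S', c * s = s * c := by
    rintro c ⟨y, hy, rfl⟩
    show k * y * k⁻¹ * s = s * (k * y * k⁻¹)
    rw [← hk, show k * y * k⁻¹ * (k * z * k⁻¹) = k * (y * z) * k⁻¹ by group, hzc y hy]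
    group
  have hcS' : ∀ c : G, IsPGroup 2 ↥(zpowers c) → c * s = s * c → c ∈ S' := by
    intro c hc hcs
    refine ⟨k⁻¹ * c * k, hcS _ ?_ ?_, show k * (k⁻¹ * c * k) * k⁻¹ = c by group⟩
    · have h := hc.map (MulAut.conj k⁻¹).toMonoidHom
      rw [MonoidHom.map_zpowers] at h
      have e : (MulAut.conj k⁻¹).toMonoidHom c = k⁻¹ * c * k := by simp
      rwa [e] at h
    · rw [← hk] at hcs
      calc k⁻¹ * c * k * z = k⁻¹ * (c * (k * z * k⁻¹)) * k := by group
        _ = k⁻¹ * (k * z * k⁻¹ * c) * k := by rw [hcs]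
        _ = z * (k⁻¹ * c * k) := by group
  set Q : Subgroup G := (S : Subgroup G) ⊓ centralizer ({s} : Set G) with hQ
  have hQmem : ∀ c, c ∈ Q ↔ c ∈ (S : Subgroup G) ∧ c * s = s * c := fun c => by
    rw [hQ, mem_inf, mem_centralizer_singleton_iff]
  have hQS' : Q ≤ S' := fun c hc =>
    hcS' c (isPGroup_zpowers_of_mem S.isPGroup' ((hQmem c).mp hc).1) ((hQmem c).mp hc).2
  have hQlt : Q < S' := by
    refine lt_of_le_of_ne hQS' fun he => ?_
    have hle : S' ≤ (S : Subgroup G) := he ▸ inf_le_left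
    have hcard : Nat.card ↥S' = Nat.card ↥(S : Subgroup G) :=
      card_map_of_injective (MulAut.conj k).injective
    have heq : S' = (S : Subgroup G) := Subgroup.eq_of_le_of_card_ge hle hcard.ge
    rcases (hZ s).mp (mem_zOne.mpr ⟨hsS, fun y hy => hS'c y (heq ▸ hy), hs2⟩) with h | h
    · exact hs1 h
    · exact hsz h
  obtain ⟨x, hx, hxQ, hxn⟩ := exists_normalizing_outside hS'p hQlt
  have hxs : x * s = s * x := hS'c x hx
  have hxz : x * z * x⁻¹ = z * s := by
    obtain ⟨h1, h2⟩ := (hQmem _).mp (hxn z ((hQmem z).mpr ⟨hzS, hzs⟩))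
    have h3 : (x * z * x⁻¹) ^ 2 = 1 := by rw [conj_pow, hz2]; group
    rcases hinv _ h1 h2 h3 with h | h | h | h
    · exact absurd (conj_eq_one_iff.mp h) hz1
    · exfalso
      refine hxQ ((hQmem x).mpr ⟨hcS x (isPGroup_zpowers_of_mem hS'p hx) ?_, hxs⟩)
      exact mul_inv_eq_iff_eq_mul.mp h
    · exfalso
      refine hsz ?_
      calc s = x⁻¹ * (x * s) := by group
        _ = x⁻¹ * (s * x) := by rw [hxs]
        _ = x⁻¹ * ((x * z * x⁻¹) * x) := by rw [h]
        _ = z := by group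
    · exact h
  refine ⟨⟨x, hxz⟩, fun Q0 hQ0 hidx hsQ0 => ?_⟩
  have hxzs : x * (z * s) * x⁻¹ = z := by
    calc x * (z * s) * x⁻¹ = x * z * x⁻¹ * ((x * s) * x⁻¹) := by group
      _ = z * s * ((s * x) * x⁻¹) := by rw [hxz, hxs]
      _ = z * s ^ 2 := by rw [mul_inv_cancel_right, mul_assoc, ← pow_two]
      _ = z := by rw [hs2, mul_one]
  obtain ⟨a, haQ, hxor⟩ := relIndex_eq_two_iff.mp hidx
  have hmul : ∀ b ∈ Q, ∀ c ∈ Q, b ∉ Q0 → c ∉ Q0 → b * c ∈ Q0 := by
    intro b hb c hc hb0 hc0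
    have h1 := mul_mem_iff_of_index_two (show (Q0.subgroupOf Q).index = 2 from hidx)
      (a := (⟨b, hb⟩ : ↥Q)) (b := ⟨c, hc⟩)
    simp only [mem_subgroupOf, Subgroup.coe_mul] at h1
    exact h1.mpr (iff_of_false hb0 hc0)
  have hsq : ∀ b ∈ Q, b ^ 2 ∈ Q0 := by
    intro b hb
    rw [pow_two]
    by_cases h : b ∈ Q0
    · exact mul_mem h h
    · exact hmul b hb b hb h h
  let four : G → Prop := fun q => q = 1 ∨ q = z ∨ q = s ∨ q = z * s
  have hzQ : z ∈ Q := (hQmem z).mpr ⟨hzS, hzs⟩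
  have hsQ : s ∈ Q := (hQmem s).mpr ⟨hsS, rfl⟩
  have hall : ∀ q ∈ Q, four q := by
    intro q hq
    by_contra hne
    obtain ⟨v, hv0, hvne⟩ : ∃ v ∈ Q0, ¬ four v := by
      by_cases h : q ∈ Q0
      · exact ⟨q, h, hne⟩
      refine ⟨q * s, hmul q hq s hsQ h hsQ0, fun h4 => hne ?_⟩
      have e : q = q * s * s := by rw [mul_assoc, ← pow_two, hs2, mul_one]
      rcases h4 with h' | h' | h' | h'
      · exact Or.inr (Or.inr (Or.inl (by rw [e, h', one_mul])))
      · exact Or.inr (Or.inr (Or.inr (by rw [e, h'])))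
      · exact Or.inl (by rw [e, h', ← pow_two, hs2])
      · exact Or.inr (Or.inl (by rw [e, h', mul_assoc, ← pow_two, hs2, mul_one]))
    have hvQ : v ∈ Q := hQ0 hv0
    obtain ⟨j, hj⟩ := IsPGroup.iff_orderOf.mp S.isPGroup' ⟨v, ((hQmem v).mp hvQ).1⟩
    rw [Subgroup.orderOf_mk] at hj
    obtain ⟨i, rfl⟩ : ∃ i, j = i + 2 := by
      refine Nat.exists_eq_add_of_le' (Nat.lt_of_not_le fun hj1 => hvne ?_)
      refine hinv v ((hQmem v).mp hvQ).1 ((hQmem v).mp hvQ).2 ?_
      exact orderOf_dvd_iff_pow_eq_one.mp (hj ▸ (Nat.pow_dvd_pow 2 hj1).trans (pow_one 2).dvd)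
    set y := v ^ 2 ^ i with hy
    have hy0 : y ∈ Q0 := pow_mem hv0 _
    have hyQ : y ∈ Q := hQ0 hy0
    have hw1 : y ^ 2 ≠ 1 := by
      intro h
      rw [hy, ← pow_mul, ← pow_succ] at h
      have h2 := (Nat.pow_dvd_pow_iff_le_right (Nat.lt_succ_self 1)).mp
        (hj ▸ orderOf_dvd_of_pow_eq_one h)
      omega
    have hw2 : (y ^ 2) ^ 2 = 1 := by
      rw [hy, ← pow_mul, ← pow_mul, show 2 ^ i * (2 * 2) = 2 ^ (i + 2) by ring, ← hj]
      exact pow_orderOf_eq_one v
    have hw0 : y ^ 2 ∈ Q0 := pow_mem hy0 2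
    have hw' : x * y ^ 2 * x⁻¹ ∈ Q0 := by
      rw [← conj_pow]; exact hsq _ (hxn y hyQ)
    obtain ⟨hwS, hws⟩ := (hQmem _).mp (hQ0 hw0)
    refine hsQ0 ?_
    rcases hinv _ hwS hws hw2 with h | h | h | h
    · exact absurd h hw1
    · rw [h, hxz] at hw'
      have h' := Q0.mul_mem (h ▸ hw0) hw'
      rwa [← mul_assoc, ← pow_two, hz2, one_mul] at h'
    · exact h ▸ hw0
    · rw [h, hxzs] at hw'
      have h' := Q0.mul_mem hw' (h ▸ hw0)
      rwa [← mul_assoc, ← pow_two, hz2, one_mul] at h'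
  have hset : (Q : Set G) = {1, z, s, z * s} := by
    ext q
    simp only [SetLike.mem_coe, Set.mem_insert_iff, Set.mem_singleton_iff]
    refine ⟨hall q, ?_⟩
    rintro (rfl | rfl | rfl | rfl)
    · exact one_mem _
    · exact hzQ
    · exact hsQ
    · exact mul_mem hzQ hsQ
  have h4 : ({1, z, s, z * s} : Set G).ncard = 4 := by
    rw [Set.ncard_eq_succ (Set.toFinite _)]
    refine ⟨1, {z, s, z * s}, ?_, rfl, ?_⟩
    · simp only [Set.mem_insert_iff, Set.mem_singleton_iff]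
      rintro (h | h | h)
      · exact hz1 h.symm
      · exact hs1 h.symm
      · exact hsz (by rw [← mul_one z, h, ← mul_assoc, ← pow_two, hz2, one_mul])
    · refine Set.ncard_eq_three.mpr ⟨z, s, z * s, hsz.symm, ?_, ?_, rfl⟩
      · intro h; exact hs1 (mul_left_cancel (h.symm.trans (mul_one z).symm))
      · intro h; exact hz1 (mul_right_cancel (h.symm.trans (one_mul s).symm))
  rw [← h4, ← hset]
  exact Nat.card_coe_set_eq _

set_option linter.unusedSectionVars false in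
set_option linter.unusedVariables false in
/-- When the pair centraliser is a four group the Sylow subgroup has a cyclic part of index two. -/
theorem Setting.pair_cyclic (S : Sylow 2 G) {z s k : G}
    (hZ : ∀ w, w ∈ zOne (S : Subgroup G) ↔ w = 1 ∨ w = z) (hz1 : z ≠ 1) (hk : k * z * k⁻¹ = s)
    (hsS : s ∈ (S : Subgroup G)) (hsz : s ≠ z)
    (hinv : ∀ u ∈ (S : Subgroup G), u * s = s * u → u ^ 2 = 1 →
      u = 1 ∨ u = z ∨ u = s ∨ u = z * s)
    (hcard : Nat.card ↥((S : Subgroup G) ⊓ centralizer ({s} : Set G)) = 4) :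
    ∃ C : Subgroup G, C ≤ (S : Subgroup G) ∧ IsCyclic ↥C ∧ C.relIndex (S : Subgroup G) = 2 := by
  haveI : Fact (Nat.Prime 2) := ⟨Nat.prime_two⟩
  set Q : Subgroup G := (S : Subgroup G) ⊓ centralizer ({s} : Set G) with hQ
  have hlt : Q < (S : Subgroup G) := by
    refine lt_of_le_of_ne inf_le_left fun he => ?_
    have hs2 : s ^ 2 = 1 := by
      rw [← hk, conj_pow, (mem_zOne.mp ((hZ z).mpr (Or.inr rfl))).2.2]; group
    have hall : ∀ y ∈ (S : Subgroup G), y * s = s * y := fun y hy => by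
      have : y ∈ Q := he ▸ hy
      exact mem_centralizer_singleton_iff.mp this.2
    rcases (hZ s).mp (mem_zOne.mpr ⟨hsS, hall, hs2⟩) with h | h
    · refine hz1 ?_
      rw [h] at hk
      exact conj_eq_one_iff.mp hk
    · exact hsz h
  obtain ⟨n, hn⟩ := IsPGroup.iff_card.mp S.isPGroup'
  have hn3 : 3 ≤ n := by
    by_contra hlt'
    push Not at hlt'
    have h1 : Nat.card ↥(S : Subgroup G) ≤ 4 :=
      hn.le.trans (le_of_le_of_eq (Nat.pow_le_pow_right (by norm_num) (Nat.le_of_lt_succ hlt')) rfl)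
    exact hlt.ne (Subgroup.eq_of_le_of_card_ge hlt.le (hcard ▸ h1))
  set A : Subgroup ↥(S : Subgroup G) := Q.subgroupOf (S : Subgroup G)
  have hA : Nat.card A = 2 ^ 2 := by
    rw [Nat.card_congr (subgroupOfEquivOfLe hlt.le).toEquiv, hcard]; rfl
  have hCA : centralizer (A : Set ↥(S : Subgroup G)) = A := by
    refine le_antisymm (fun c hc => ?_) ?_
    · refine mem_subgroupOf.mpr ⟨c.2, mem_centralizer_singleton_iff.mpr ?_⟩
      have hsA : (⟨s, hsS⟩ : ↥(S : Subgroup G)) ∈ A :=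
        mem_subgroupOf.mpr ⟨hsS, mem_centralizer_singleton_iff.mpr rfl⟩
      exact (congrArg Subtype.val (mem_centralizer_iff.mp hc _ hsA)).symm
    · haveI : IsMulCommutative ↥A := IsPGroup.isMulCommutative_of_card_eq_prime_sq hA
      exact Subgroup.le_centralizer A
  obtain ⟨C, hC, hCi⟩ := S0113.result n hn3 hn (S0112.result n hn A hA hCA)
  refine ⟨C.map (S : Subgroup G).subtype, map_subtype_le C, ?_, ?_⟩
  · exact isCyclic_of_surjective _
      (C.equivMapOfInjective _ (S : Subgroup G).subtype_injective).surjective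
  · rw [relIndex, subgroupOf, comap_map_eq_self_of_injective (S : Subgroup G).subtype_injective]
    exact hCi

end Cfsg.Agent.H69.ZC
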