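import Cfsg.Agent.H69.ZC.Basic
import Cfsg.Agent.H69.ZC.Pair
import Cfsg.Agent.H69.ZC.Centralizer
import Cfsg.Agent.H61.NormalFourGroup

/-!
The case of two-rank at least three: a common signalizer closure for the four-groups lying in
elementary abelian subgroups of order eight of the Sylow subgroup, and control of fusion by its
normaliser.
-/

set_option autoImplicit false
set_option linter.style.haveILetI false
set_option linter.unusedSectionVars false

namespace Cfsg.Agent.H69.ZC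

open Subgroup Cfsg

variable {G : Type*} [Group G] [Finite G]

local notation "θ" => centralizerPPrimeCore 2

/-- An elementary abelian subgroup of order at least eight of `S`. -/
def Big (S A : Subgroup G) : Prop :=
  A ≤ S ∧ IsElementaryAbelian 2 A ∧ 2 ^ 3 ≤ Nat.card A

/-- A four-group inside an elementary abelian subgroup of order at least eight of `S`. -/
def Wide (S U : Subgroup G) : Prop :=
  IsKleinFour U ∧ ∃ A : Subgroup G, U ≤ A ∧ Big S A

/-- An involution inside an elementary abelian subgroup of order at least eight of `S`. -/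
def WideElt (S : Subgroup G) (t : G) : Prop :=
  orderOf t = 2 ∧ ∃ U A : Subgroup G, t ∈ U ∧ IsKleinFour U ∧ U ≤ A ∧ Big S A

theorem wideElt_of_mem {S A : Subgroup G} (hA : Big S A) {t : G} (ht : t ∈ A) (ht1 : t ≠ 1) :
    WideElt S t := by
  obtain ⟨U, hUA, hU, htU⟩ := H83.CoreKilling.klein_le_of_elem hA.2.1
    (le_trans (by norm_num) hA.2.2) ht ht1
  exact ⟨orderOf_eq_two (hA.2.1.2 t ht) ht1, U, A, htU, hU, hUA, hA⟩

theorem elem_zpowers {t : G} (ht : t ^ 2 = 1) : IsElementaryAbelian 2 (zpowers t) :=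
  ⟨inferInstance, fun x hx => by
    obtain ⟨m, rfl⟩ := mem_zpowers_iff.mp hx
    rw [← zpow_natCast, ← zpow_mul, mul_comm, zpow_mul, zpow_natCast, ht, one_zpow]⟩

/-- A subgroup meeting a coset-pair condition has index at most two. -/
theorem card_le_two_mul {A T : Subgroup G}
    (h : ∀ a ∈ A, a ∉ T → ∀ b ∈ A, b ∉ T → a * b ∈ T) :
    Nat.card A ≤ 2 * Nat.card ↥(A ⊓ T) := by
  classical
  by_cases hAT : A ≤ T
  · rw [inf_eq_left.mpr hAT]; omega
  obtain ⟨a, ha, haT⟩ := SetLike.not_le_iff_exists.mp hAT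
  let f : ↥A → ↥(A ⊓ T) × Bool := fun x =>
    if hx : (x : G) ∈ T then (⟨x, x.2, hx⟩, false)
    else (⟨a * x, mul_mem ha x.2, h a ha haT x x.2 hx⟩, true)
  have hf : Function.Injective f := by
    intro x y hxy
    simp only [f] at hxy
    split_ifs at hxy with hx hy hy
    · exact Subtype.ext (congrArg (fun w : ↥(A ⊓ T) => (w : G)) (Prod.ext_iff.mp hxy).1)
    · exact absurd (Prod.ext_iff.mp hxy).2 (by simp)
    · exact absurd (Prod.ext_iff.mp hxy).2 (by simp)
    · exact Subtype.ext (mul_left_cancel (congrArg Subtype.val (Prod.ext_iff.mp hxy).1))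
  refine (Nat.card_le_card_of_injective f hf).trans ?_
  rw [Nat.card_prod, Nat.card_eq_fintype_card (α := Bool), Fintype.card_bool, mul_comm]

/-- Two commuting distinct four-groups generate an elementary abelian subgroup of order at least eight. -/
theorem big_of_commuting {S A B : Subgroup G} (hAS : A ≤ S) (hBS : B ≤ S)
    (hA : IsKleinFour A) (hB : IsElementaryAbelian 2 B)
    (h : ∀ a ∈ A, ∀ b ∈ B, a * b = b * a) (hne : ¬ B ≤ A) : Big S (A ⊔ B) := by
  have he : IsElementaryAbelian 2 (A ⊔ B) := H51.elem_sup (H83.CoreKilling.elem_of_klein hA) hB h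
  refine ⟨sup_le hAS hBS, he, H51.two_pow_le_card_of_lt (k := 2) he ?_⟩
  by_contra hlt
  refine hne (le_sup_right.trans (eq_of_le_of_card_ge (le_sup_left : A ≤ A ⊔ B) ?_).ge)
  rw [hA.card_four]; omega

theorem exists_big {hr : ¬ PRankLE 2 2 G} (S : Sylow 2 G) :
    ∃ A : Subgroup G, Big (S : Subgroup G) A := by
  haveI : Fact (Nat.Prime 2) := ⟨Nat.prime_two⟩
  simp only [PRankLE, not_forall, not_le] at hr
  obtain ⟨V, hVc, hV2, hV⟩ := hr
  have hVe : IsElementaryAbelian 2 V := ⟨hVc, hV2⟩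
  obtain ⟨P, hP⟩ := (H52.elem_isPGroup (p := 2) hVe).exists_le_sylow
  obtain ⟨g, hg⟩ := MulAction.exists_smul_eq G P S
  refine ⟨V.map (MulAut.conj g).toMonoidHom, ?_, H34.isElementaryAbelian_map hVe _, ?_⟩
  · rw [← hg]
    exact map_mono hP
  · rw [card_map_of_injective (MulAut.conj g).injective]
    exact H51.two_pow_le_card_of_lt hVe hV

/-- A two-subgroup of `M` can be moved into `S` inside `M`. -/
theorem exists_conj_into (S : Sylow 2 G) {M : Subgroup G} (hSM : (S : Subgroup G) ≤ M)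
    {P : Subgroup G} (hP : IsPGroup 2 P) (hPM : P ≤ M) :
    ∃ l ∈ M, ∀ x ∈ P, l * x * l⁻¹ ∈ (S : Subgroup G) := by
  haveI : Fact (Nat.Prime 2) := ⟨Nat.prime_two⟩
  let S' : Sylow 2 ↥M := S.subtype hSM
  obtain ⟨R, hR⟩ := (hP.comap_subtype (K := M)).exists_le_sylow
  obtain ⟨l, hl⟩ := MulAction.exists_smul_eq ↥M R S'
  refine ⟨l, l.2, fun x hx => ?_⟩
  have h3 : l * ⟨x, hPM hx⟩ * l⁻¹ ∈ (S' : Subgroup ↥M) := by
    rw [← hl]; exact mem_map_of_mem _ (hR (mem_subgroupOf.mpr hx))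
  exact h3

/-- A normal four-group of `S`, central if possible, with the central involutions otherwise inside. -/
theorem exists_base {hr : ¬ PRankLE 2 2 G} (S : Sylow 2 G) :
    ∃ U : Subgroup G, U ≤ (S : Subgroup G) ∧ IsKleinFour U ∧
      (∀ a ∈ (S : Subgroup G), ∀ u ∈ U, a * u * a⁻¹ ∈ U) ∧
      (U ≤ zOne (S : Subgroup G) ∨
        ∃ z ∈ U, z ≠ 1 ∧ ∀ w, w ∈ zOne (S : Subgroup G) ↔ w = 1 ∨ w = z) := by
  haveI : Fact (Nat.Prime 2) := ⟨Nat.prime_two⟩
  set Z := zOne (S : Subgroup G) with hZdef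
  obtain ⟨A, hAS, hA, hA8⟩ := exists_big (hr := hr) S
  by_cases hZ4 : 4 ≤ Nat.card Z
  · obtain ⟨e, he, he1⟩ := H29.exists_ne_one_of_one_lt_card (A := Z) (by omega)
    obtain ⟨U, hUZ, hU, -⟩ := H83.CoreKilling.klein_le_of_elem (zOne_elem _) hZ4 he he1
    refine ⟨U, hUZ.trans (zOne_le _), hU, fun a ha u hu => ?_, Or.inl hUZ⟩
    rwa [(mem_zOne.mp (hUZ hu)).2.1 a ha, mul_inv_cancel_right]
  obtain ⟨E, hEA, hE8⟩ : ∃ E : Subgroup G, E ≤ A ∧ Nat.card E = 8 := by
    obtain ⟨k, hk⟩ := (H52.elem_isPGroup (p := 2) hA).exists_card_eq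
    have hk3 : 3 ≤ k := by
      by_contra hc
      have := Nat.pow_le_pow_right (n := 2) (by norm_num) (show k ≤ 2 by omega)
      omega
    obtain ⟨E', hE'⟩ := Sylow.exists_subgroup_card_pow_prime (G := ↥A) 2
      (show 2 ^ 3 ∣ Nat.card A from hk ▸ pow_dvd_pow 2 hk3)
    exact ⟨E'.map A.subtype, map_subtype_le _, by
      rw [card_map_of_injective A.subtype_injective, hE']; rfl⟩
  have hES := hEA.trans hAS
  obtain ⟨U', hU'n, hU'4, hU'2⟩ := H61.exists_normal_four S.isPGroup' (E.subgroupOf (S : Subgroup G))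
    (by rw [Nat.card_congr (subgroupOfEquivOfLe hES).toEquiv]; exact hE8)
    (fun e he => Subtype.ext (by simpa using hA.2 _ (hEA (mem_subgroupOf.mp he))))
  haveI := hU'n
  have hne : U' ≠ ⊥ := fun h => by rw [h, card_bot] at hU'4; omega
  obtain ⟨z, hzc, hzU, hz1⟩ := H29.exists_mem_center_of_normal S.isPGroup' hne
  set U := U'.map (S : Subgroup G).subtype with hUdef
  have hU4 : Nat.card U = 4 := by
    rw [card_map_of_injective (S : Subgroup G).subtype_injective]; exact hU'4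
  have hU2 : ∀ u ∈ U, u ^ 2 = 1 := by
    rintro _ ⟨u, hu, rfl⟩; rw [← map_pow, hU'2 u hu, map_one]
  have hzZ : (z : G) ∈ Z := mem_zOne.mpr ⟨z.2, fun s hs =>
    congrArg Subtype.val (mem_center_iff.mp hzc ⟨s, hs⟩), congrArg Subtype.val (hU'2 z hzU)⟩
  have hzne : (z : G) ≠ 1 := fun h => hz1 (Subtype.ext h)
  refine ⟨U, map_subtype_le _, ?_, ?_, Or.inr ⟨z, mem_map_of_mem _ hzU, hzne, fun w => ⟨fun hw => ?_, ?_⟩⟩⟩
  · refine H29.isKleinFour_of_card_four hU4 hU2
  · rintro a ha _ ⟨u, hu, rfl⟩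
    exact ⟨⟨a, ha⟩ * u * ⟨a, ha⟩⁻¹, hU'n.conj_mem u hu ⟨a, ha⟩, rfl⟩
  · by_contra hw'
    push Not at hw'
    refine hZ4 ?_
    have hle : H29.fourSubgroup w (z : G) ((zOne_elem _).2 w hw) ((zOne_elem _).2 _ hzZ)
        (H52.elem_comm (zOne_elem _) hw hzZ) ≤ Z := fun x hx => by
      rcases H29.mem_fourSubgroup.mp hx with rfl | rfl | rfl | rfl
      exacts [one_mem _, hw, hzZ, mul_mem hw hzZ]
    refine le_trans ?_ (card_le_of_le hle)
    exact (H29.isKleinFour_fourSubgroup hw'.1 hzne hw'.2).card_four.ge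
  · rintro (rfl | rfl)
    exacts [one_mem _, hzZ]

namespace Setting

variable (hs : Setting G)
include hs

theorem complete {S A : Subgroup G} (hA : Big S A) :
    Odd (Nat.card ↥(signalizerClosure A θ)) ∧
      ∀ a ∈ A, a ≠ 1 → signalizerClosure A θ ⊓ centralizer ({a} : Set G) = θ a := by
  haveI : Fact (Nat.Prime 2) := ⟨Nat.prime_two⟩
  obtain ⟨h1, h2⟩ := S0217.result A (fun a ha b hb => H52.elem_comm hA.2.1 ha hb) hA.2.1.2 hA.2.2 θ
    (fun a _ _ => H59.centralizerPPrimeCore_le 2 a) (fun a _ _ => (core_odd a).not_two_dvd_nat)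
    (fun a ha _ b hb x hx => le_normalizer_iff.mp (H59.centralizer_le_normalizer_core 2 a) b
      (mem_centralizer_singleton_iff.mpr (H52.elem_comm hA.2.1 hb ha)) x hx)
    (fun a _ _ => S0205.result (core_odd a))
    (fun a ha ha1 b hb hb1 => hs.balance (orderOf_eq_two (hA.2.1.2 a ha) ha1)
      (orderOf_eq_two (hA.2.1.2 b hb) hb1) (H52.elem_comm hA.2.1 ha hb))
  exact ⟨Nat.odd_iff.mpr (Nat.two_dvd_ne_zero.mp h1), h2⟩

theorem closure_eq {S A U : Subgroup G} (hA : Big S A) (hUA : U ≤ A) (hU : 4 ≤ Nat.card U) :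
    signalizerClosure A θ = signalizerClosure U θ := by
  obtain ⟨hodd, hC⟩ := hs.complete hA
  have hAn : A ≤ normalizer (signalizerClosure A θ : Set G) := by
    intro g hg
    have h1 : A.map (MulAut.conj g).toMonoidHom = A :=
      mem_normalizer_iff_map_conj_eq.mp (le_normalizer hg)
    refine mem_normalizer_iff_map_conj_eq.mpr ((H83.CoreKilling.map_closure g A).trans ?_)
    rw [h1]
  refine le_antisymm ?_ (iSup_le fun u =>
    le_iSup (fun a : {a : G // a ∈ A ∧ a ≠ 1} => θ (a : G)) ⟨u, hUA u.2.1, u.2.2⟩)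
  refine H51.le_of_four_centralizers_le (H52.elem_mono hA.2.1 hUA) hU (hUA.trans hAn) hodd
    fun v hv hv1 => ?_
  rw [hC v (hUA hv) hv1]
  exact le_iSup (fun a : {a : G // a ∈ U ∧ a ≠ 1} => θ (a : G)) ⟨v, hv, hv1⟩

/-- The common closure and the fusion it controls. -/
theorem exists_core (hr : ¬ PRankLE 2 2 G) (S : Sylow 2 G) :
    ∃ W : Subgroup G, Odd (Nat.card W) ∧ (S : Subgroup G) ≤ normalizer (W : Set G) ∧
      (∀ t, WideElt (S : Subgroup G) t → θ t ≤ W ∧
        centralizer ({t} : Set G) ≤ normalizer (W : Set G)) ∧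
      (∀ t s k : G, WideElt (S : Subgroup G) t → WideElt (S : Subgroup G) s →
        k * t * k⁻¹ = s → k ∈ normalizer (W : Set G)) ∧
      ∀ r ∈ res G ⊔ zOne (S : Subgroup G), r ∈ normalizer (W : Set G) → orderOf r = 2 →
        ∃ g ∈ normalizer (W : Set G), WideElt (S : Subgroup G) (g * r * g⁻¹) := by
  haveI : Fact (Nat.Prime 2) := ⟨Nat.prime_two⟩
  obtain ⟨A₁, hA₁⟩ := exists_big (hr := hr) S
  obtain ⟨U₀, hU₀S, hU₀, hU₀n, hdich⟩ := exists_base (hr := hr) S
  haveI := hU₀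
  set T := (S : Subgroup G) ⊓ centralizer (U₀ : Set G) with hTdef
  have hU₀e := H83.CoreKilling.elem_of_klein hU₀
  have hUT : U₀ ≤ T := le_inf hU₀S fun x hx =>
    mem_centralizer_iff.mpr fun y hy => H29.comm_of_mem_kleinFour hy hx
  have hZT : zOne (S : Subgroup G) ≤ T := fun x hx =>
    ⟨zOne_le _ hx, mem_centralizer_iff.mpr fun u hu => (mem_zOne.mp hx).2.1 u (hU₀S hu)⟩
  -- `T` has index at most two
  have htwo : ∀ a ∈ (S : Subgroup G), a ∉ T → ∀ b ∈ (S : Subgroup G), b ∉ T → a * b ∈ T := by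
    intro a ha haT b hb hbT
    rcases hdich with hc | ⟨z, hzU, hz1, hZ⟩
    · exact absurd ⟨ha, mem_centralizer_iff.mpr fun u hu => ((mem_zOne.mp (hc hu)).2.1 a ha).symm⟩ haT
    obtain ⟨u, hu, hu1, huz⟩ := H29.exists_mem_ne_ne (A := U₀) (by rw [hU₀.card_four]; norm_num) z
    have hU : ∀ x ∈ U₀, x = 1 ∨ x = z ∨ x = u ∨ x = z * u := by
      intro x hx
      have he : H29.fourSubgroup z u (hU₀e.2 z hzU) (hU₀e.2 u hu) (H52.elem_comm hU₀e hzU hu) = U₀ := by
        refine eq_of_le_of_card_ge (fun y hy => ?_)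
          (by rw [(H29.isKleinFour_fourSubgroup hz1 hu1 (Ne.symm huz)).card_four, hU₀.card_four])
        rcases H29.mem_fourSubgroup.mp hy with rfl | rfl | rfl | rfl
        exacts [one_mem _, hzU, hu, mul_mem hzU hu]
      rw [← he] at hx
      exact H29.mem_fourSubgroup.mp hx
    have hzc : ∀ c ∈ (S : Subgroup G), c * z * c⁻¹ = z := fun c hc => by
      rw [(mem_zOne.mp ((hZ z).mpr (Or.inr rfl))).2.1 c hc, mul_inv_cancel_right]
    have hmem : ∀ c ∈ (S : Subgroup G), c * u * c⁻¹ = u → c ∈ T := by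
      refine fun c hc h => ⟨hc, mem_centralizer_iff.mpr fun x hx => ?_⟩
      have h' : c * x * c⁻¹ = x := by
        rcases hU x hx with e | e | e | e
        · simp [e]
        · rw [e]; exact hzc c hc
        · rw [e]; exact h
        · rw [e, show c * (z * u) * c⁻¹ = (c * z * c⁻¹) * (c * u * c⁻¹) by group, hzc c hc, h]
      exact (mul_inv_eq_iff_eq_mul.mp h').symm
    have hmove : ∀ c ∈ (S : Subgroup G), c ∉ T → c * u * c⁻¹ = z * u := by
      intro c hc hcT
      rcases hU _ (hU₀n c hc u hu) with h | h | h | h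
      · exact absurd (by simpa using h) hu1
      · refine absurd ?_ huz
        have := congrArg (fun x => c⁻¹ * x * c) h
        simp only [mul_assoc, inv_mul_cancel_left, inv_mul_cancel, mul_one] at this
        rw [this]
        nth_rw 1 [← hzc c hc]
        group
      · exact absurd (hmem c hc h) hcT
      · exact h
    refine hmem _ (mul_mem ha hb) ?_
    rw [show a * b * u * (a * b)⁻¹ = a * (b * u * b⁻¹) * a⁻¹ by group, hmove b hb hbT,
      show a * (z * u) * a⁻¹ = (a * z * a⁻¹) * (a * u * a⁻¹) by group, hzc a ha, hmove a ha haT,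
      ← mul_assoc, ← sq, hU₀e.2 z hzU, one_mul]
  -- four-groups in the meet with `T`
  have hAT : ∀ A : Subgroup G, Big (S : Subgroup G) A → 4 ≤ Nat.card ↥(A ⊓ T) := by
    intro A hA
    have := card_le_two_mul (A := A) (T := T) fun a ha haT b hb hbT =>
      htwo a (hA.1 ha) haT b (hA.1 hb) hbT
    have := hA.2.2
    omega
  have hcomm : ∀ B : Subgroup G, B ≤ T → ∀ a ∈ U₀, ∀ b ∈ B, a * b = b * a := fun B hB a ha b hb =>
    mem_centralizer_iff.mp (hB hb).2 a ha
  obtain ⟨A₀, hA₀, hUA₀⟩ : ∃ A₀, Big (S : Subgroup G) A₀ ∧ U₀ ≤ A₀ := by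
    by_cases hle : A₁ ⊓ T ≤ U₀
    · refine ⟨A₁, hA₁, ?_⟩
      rw [← eq_of_le_of_card_ge hle (by rw [hU₀.card_four]; exact hAT A₁ hA₁)]
      exact inf_le_left
    · exact ⟨_, big_of_commuting hU₀S ((inf_le_right).trans inf_le_left) hU₀
        (H52.elem_mono hA₁.2.1 inf_le_left) (hcomm _ inf_le_right) hle, le_sup_left⟩
  set W := signalizerClosure U₀ θ with hWdef
  have hclA : ∀ A : Subgroup G, Big (S : Subgroup G) A → signalizerClosure A θ = W := by
    intro A hA
    by_cases hle : A ⊓ T ≤ U₀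
    · have he := eq_of_le_of_card_ge hle (by rw [hU₀.card_four]; exact hAT A hA)
      rw [hWdef, ← he]
      exact hs.closure_eq hA inf_le_left (hAT A hA)
    · have hB := big_of_commuting (S := (S : Subgroup G)) hU₀S ((inf_le_right).trans inf_le_left) hU₀
        (H52.elem_mono hA.2.1 (inf_le_left : A ⊓ T ≤ A)) (hcomm _ inf_le_right) hle
      rw [hs.closure_eq hA inf_le_left (hAT A hA), ← hs.closure_eq hB le_sup_right (hAT A hA),
        hs.closure_eq hB le_sup_left hU₀.card_four.ge]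
  set M := normalizer (W : Set G) with hMdef
  have hg : ∀ g : G, ∀ U A B : Subgroup G, IsKleinFour U → U ≤ A → A ≤ (S : Subgroup G) →
      IsElementaryAbelian 2 A → 2 ^ 3 ≤ Nat.card A → U.map (MulAut.conj g).toMonoidHom ≤ B →
      B ≤ (S : Subgroup G) → IsElementaryAbelian 2 B → 2 ^ 3 ≤ Nat.card B → g ∈ M := by
    intro g U A B hU hUA h1 h2 h3 hgU h4 h5 h6
    refine mem_normalizer_iff_map_conj_eq.mpr ?_
    have e1 : signalizerClosure U θ = W :=
      (hs.closure_eq ⟨h1, h2, h3⟩ hUA hU.card_four.ge).symm.trans (hclA A ⟨h1, h2, h3⟩)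
    rw [← e1]
    exact (H83.CoreKilling.map_closure g U).trans (((hs.closure_eq ⟨h4, h5, h6⟩ hgU
      (H29.isKleinFour_map _ (MulAut.conj g).injective hU).card_four.ge).symm.trans
        (hclA B ⟨h4, h5, h6⟩)).trans e1.symm)
  have hSM : (S : Subgroup G) ≤ M := fun a ha =>
    hg a U₀ A₀ A₀ hU₀ hUA₀ hA₀.1 hA₀.2.1 hA₀.2.2 (by
      rintro _ ⟨u, hu, rfl⟩
      exact hUA₀ (hU₀n a ha u hu)) hA₀.1 hA₀.2.1 hA₀.2.2
  have hWodd : Odd (Nat.card W) := by rw [← hclA A₀ hA₀]; exact (hs.complete hA₀).1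
  have hcore : ∀ t, WideElt (S : Subgroup G) t → θ t ≤ W ∧ centralizer ({t} : Set G) ≤ M := by
    rintro t ⟨ht, U, A, htU, hU, hUA, hA⟩
    have htW : θ t ≤ W := by
      rw [← hclA A hA]
      exact le_iSup (fun a : {a : G // a ∈ A ∧ a ≠ 1} => θ (a : G))
        ⟨t, hUA htU, (ne_one_of_orderOf ht).1⟩
    exact ⟨htW, hs.centralizer_le S hg hSM ht htU hU hUA hA.1 hA.2.1 hA.2.2 htW⟩
  -- fusion between wide involutions
  have hF : ∀ t s k : G, WideElt (S : Subgroup G) t → WideElt (S : Subgroup G) s →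
      k * t * k⁻¹ = s → k ∈ M := by
    rintro t s k ⟨-, U, A, htU, hU, hUA, hA⟩ hsw hk
    set P := A.map (MulAut.conj k).toMonoidHom with hP
    have hPM : P ≤ M := by
      rintro _ ⟨a, ha, rfl⟩
      refine (hcore s hsw).2 (mem_centralizer_singleton_iff.mpr ?_)
      show k * a * k⁻¹ * s = s * (k * a * k⁻¹)
      rw [← hk, show k * a * k⁻¹ * (k * t * k⁻¹) = k * (a * t) * k⁻¹ by group,
        H52.elem_comm hA.2.1 ha (hUA htU)]
      group
    have hPe : IsElementaryAbelian 2 P := H34.isElementaryAbelian_map hA.2.1 _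
    obtain ⟨l, hl, hlP⟩ := exists_conj_into S hSM (H52.elem_isPGroup (p := 2) hPe) hPM
    have hlk : l * k ∈ M := by
      refine hg _ U A (A.map (MulAut.conj (l * k)).toMonoidHom) hU hUA hA.1 hA.2.1 hA.2.2
        (map_mono hUA) ?_ (H34.isElementaryAbelian_map hA.2.1 _)
        (by rw [card_map_of_injective (MulAut.conj _).injective]; exact hA.2.2)
      rintro _ ⟨a, ha, rfl⟩
      have := hlP _ (mem_map_of_mem _ ha)
      simpa [mul_assoc] using this
    simpa using mul_mem (inv_mem hl) hlk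
  -- involutions of `T`
  have hTwide : ∀ t ∈ T, orderOf t = 2 → WideElt (S : Subgroup G) t := by
    intro t ht ht2
    by_cases htU : t ∈ U₀
    · exact wideElt_of_mem hA₀ (hUA₀ htU) (ne_one_of_orderOf ht2).1
    refine wideElt_of_mem (big_of_commuting (B := zpowers t) hU₀S (zpowers_le.mpr ht.1) hU₀
      (elem_zpowers (ne_one_of_orderOf ht2).2) (hcomm _ (zpowers_le.mpr ht))
      (fun h => htU (h (mem_zpowers t)))) (mem_sup_right (mem_zpowers t)) (ne_one_of_orderOf ht2).1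
  refine ⟨W, hWodd, hSM, hcore, hF, ?_⟩
  intro r hrX hrM hr2
  obtain ⟨m, hm, hmr⟩ := exists_conj_into S hSM (H51.isPGroup_zpowers_of_orderOf (p := 2) hr2)
    (zpowers_le.mpr hrM)
  set s := m * r * m⁻¹ with hsdef
  have hsS : s ∈ (S : Subgroup G) := hmr r (mem_zpowers r)
  have hs2 : orderOf s = 2 := (orderOf_conj m r).trans hr2
  by_cases hsT : s ∈ T
  · exact ⟨m, hm, hTwide s hsT hs2⟩
  rcases hdich with hc | ⟨z, hzU, hz1, hZ⟩
  · exact absurd ⟨hsS, mem_centralizer_iff.mpr fun u hu => ((mem_zOne.mp (hc hu)).2.1 s hsS).symm⟩ hsT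
  have hzZ : z ∈ zOne (S : Subgroup G) := (hZ z).mpr (Or.inr rfl)
  have hzw : WideElt (S : Subgroup G) z :=
    wideElt_of_mem hA₀ (hUA₀ hzU) hz1
  -- the residual contains `z`
  have hzH : z ∈ res G := by
    obtain ⟨w, hw, hwH, hw1⟩ := hs.exists_zOne_res S
    exact ((hZ w).mp hw).resolve_left hw1 ▸ hwH
  haveI := res_normal G
  have hX : res G ⊔ zOne (S : Subgroup G) = res G := sup_eq_left.mpr fun w hw => by
    rcases (hZ w).mp hw with rfl | rfl
    exacts [one_mem _, hzH]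
  have hsH : s ∈ res G := Subgroup.Normal.conj_mem inferInstance r (hX ▸ hrX) m
  have hrel : T.relIndex (S : Subgroup G) = 2 := by
    rw [relIndex, index_eq_two_iff]
    refine ⟨⟨s, hsS⟩, fun b => ?_⟩
    simp only [mem_subgroupOf, Subgroup.coe_mul]
    by_cases hb : (b : G) ∈ T
    · exact Or.inr ⟨hb, fun h => hsT (by simpa using T.mul_mem (T.inv_mem hb) h)⟩
    · exact Or.inl ⟨htwo b b.2 hb s hsS hsT, hb⟩
  obtain ⟨g, hg'⟩ := hs.fuse S (inf_le_left) hrel hs2 hsS hsH
  -- conjugates of `z` in `S` are wide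
  have hzconj : ∀ k u, k * z * k⁻¹ = u → u ∈ (S : Subgroup G) → WideElt (S : Subgroup G) u := by
    intro k u hk huS
    by_cases huT : u ∈ T
    · refine hTwide u huT ?_
      rw [← hk, orderOf_conj]; exact orderOf_eq_two (mem_zOne.mp hzZ).2.2 hz1
    by_contra hu
    have huz : u ≠ z := fun h => huT (h ▸ hZT hzZ)
    have hu2 : u ^ 2 = 1 := by
      rw [← hk, conj_pow, (mem_zOne.mp hzZ).2.2, mul_one, mul_inv_cancel]
    have hu1 : u ≠ 1 := fun h => huT (h ▸ one_mem _)
    have hzu : z * u = u * z := ((mem_zOne.mp hzZ).2.1 u huS).symm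
    have hinv : ∀ w ∈ (S : Subgroup G), w * u = u * w → w ^ 2 = 1 →
        w = 1 ∨ w = z ∨ w = u ∨ w = z * u := by
      intro w hwS hwu hw2
      by_contra hne
      have h4 := H29.isKleinFour_fourSubgroup (hu := (mem_zOne.mp hzZ).2.2) (hv := hu2) (huv := hzu)
        hz1 hu1 huz.symm
      refine hu (wideElt_of_mem (big_of_commuting (S := (S : Subgroup G)) (B := zpowers w)
        (fun x hx => ?_) (zpowers_le.mpr hwS) h4 (elem_zpowers hw2) (fun a ha b hb => ?_)
        (fun h => hne ?_)) (mem_sup_left (H29.mem_fourSubgroup.mpr (Or.inr (Or.inr (Or.inl rfl))))) hu1)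
      · rcases H29.mem_fourSubgroup.mp hx with rfl | rfl | rfl | rfl
        exacts [one_mem _, zOne_le _ hzZ, huS, mul_mem (zOne_le _ hzZ) huS]
      · obtain ⟨i, rfl⟩ := mem_zpowers_iff.mp hb
        have hc : Commute a w := by
          rcases H29.mem_fourSubgroup.mp ha with rfl | rfl | rfl | rfl
          exacts [Commute.one_left w, ((mem_zOne.mp hzZ).2.1 w hwS).symm, hwu.symm,
            Commute.mul_left ((mem_zOne.mp hzZ).2.1 w hwS).symm hwu.symm]
        exact (hc.zpow_right i).eq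
      · exact H29.mem_fourSubgroup.mp (h (mem_zpowers w))
    set Q := (S : Subgroup G) ⊓ centralizer ({u} : Set G) with hQ
    have huQ : u ∈ Q := ⟨huS, mem_centralizer_singleton_iff.mpr rfl⟩
    have hQ0 : (Q ⊓ T).relIndex Q = 2 := by
      rw [relIndex, index_eq_two_iff]
      refine ⟨⟨u, huQ⟩, fun b => ?_⟩
      simp only [mem_subgroupOf, Subgroup.coe_mul]
      by_cases hb : (b : G) ∈ T
      · exact Or.inr ⟨⟨b.2, hb⟩, fun h => huT (by simpa using T.mul_mem (T.inv_mem hb) h.2)⟩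
      · exact Or.inl ⟨⟨mul_mem b.2 huQ, htwo b b.2.1 hb u huS huT⟩, fun h => hb h.2⟩
    have h4 := (hs.pair S hZ hz1 hk huS huz hinv).2 _ inf_le_left hQ0 (fun h => huT h.2)
    obtain ⟨C, hCS, hCc, hCi⟩ := hs.pair_cyclic S hZ hz1 hk huS huz hinv h4
    have hle := card_le_two_mul (A := A₁) (T := C) fun a ha haC b hb hbC => by
      have := (mul_mem_iff_of_index_two (H := C.subgroupOf (S : Subgroup G)) hCi
        (a := ⟨a, hA₁.1 ha⟩) (b := ⟨b, hA₁.1 hb⟩)).mpr (iff_of_false haC hbC)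
      exact this
    haveI : IsCyclic ↥C := hCc
    haveI : IsCyclic ↥(A₁ ⊓ C) := isCyclic_of_injective (inclusion inf_le_right)
      (inclusion_injective _)
    obtain ⟨c, hc⟩ := IsCyclic.exists_generator (α := ↥(A₁ ⊓ C))
    have h2 : orderOf c ≤ 2 := Nat.le_of_dvd (by norm_num) (orderOf_dvd_of_pow_eq_one
      (Subtype.ext (hA₁.2.1.2 c c.2.1)))
    rw [orderOf_eq_card_of_forall_mem_zpowers hc] at h2
    have := hA₁.2.2
    omega
  -- `g` may be corrected inside `M`
  have hgw : WideElt (S : Subgroup G) (g * s * g⁻¹) := hTwide _ hg' ((orderOf_conj g s).trans hs2)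
  have hgzM : g * z * g⁻¹ ∈ M := by
    refine (hcore _ hgw).2 (mem_centralizer_singleton_iff.mpr ?_)
    rw [show g * z * g⁻¹ * (g * s * g⁻¹) = g * (z * s) * g⁻¹ by group,
      show g * s * g⁻¹ * (g * z * g⁻¹) = g * (s * z) * g⁻¹ by group,
      (mem_zOne.mp hzZ).2.1 s hsS]
  obtain ⟨l, hl, hlz⟩ := exists_conj_into S hSM (H51.isPGroup_zpowers_of_orderOf (p := 2)
    ((orderOf_conj g z).trans (orderOf_eq_two (mem_zOne.mp hzZ).2.2 hz1))) (zpowers_le.mpr hgzM)
  have hlz' : (l * g) * z * (l * g)⁻¹ ∈ (S : Subgroup G) := by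
    simpa [mul_assoc] using hlz _ (mem_zpowers _)
  have hlg : l * g ∈ M := hF z _ (l * g) hzw (hzconj _ _ rfl hlz') rfl
  have hgM : g ∈ M := by simpa using mul_mem (inv_mem hl) hlg
  exact ⟨g * m, mul_mem hgM hm, by simpa [hsdef, mul_assoc] using hgw⟩

/-- Two-rank at least three. -/
theorem rank_three (hr : ¬ PRankLE 2 2 G) (S : Sylow 2 G) :
    (∃ K : Subgroup ↥(res G), IsStronglyEmbedded K) ∨
      IsCharacteristicTwoType ↥(res G ⊔ zOne (S : Subgroup G)) := by
  obtain ⟨W, hWodd, hSM, hcore, hF, hwide⟩ := hs.exists_core hr S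
  set M := normalizer (W : Set G) with hM
  by_cases hMt : M = ⊤
  · right
    haveI : W.Normal := normalizer_eq_top_iff.mp hMt
    have hW : W = ⊥ := le_bot_iff.mp
      ((H51.le_pPrimeCore inferInstance (Nat.coprime_two_right.mpr hWodd)).trans hs.odd.le)
    refine hs.charTwo S fun r hr2 hrX => ?_
    obtain ⟨g, -, hg⟩ := hwide r hrX (hMt ▸ mem_top r) hr2
    exact core_eq_bot_conj (le_bot_iff.mp (hW ▸ (hcore _ hg).1))
  · left
    refine hs.stronglyEmbedded S hMt hSM fun r hrH hrM hr2 g hgM => ?_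
    haveI := res_normal G
    have hr2' : orderOf (g⁻¹ * r * g) = 2 := by
      simpa using (orderOf_conj g⁻¹ r).trans hr2
    obtain ⟨a, ha, hawide⟩ := hwide r (mem_sup_left hrH) hrM hr2
    obtain ⟨b, hb, hbwide⟩ := hwide _ (mem_sup_left (show g⁻¹ * r * g ∈ res G by
      simpa using Subgroup.Normal.conj_mem inferInstance r hrH g⁻¹)) hgM hr2'
    have hk := hF _ _ (a * g * b⁻¹) hbwide hawide (by group)
    simpa [mul_assoc] using mul_mem (mul_mem (inv_mem ha) hk) hb

end Setting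

end Cfsg.Agent.H69.ZC
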