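import Cfsg.Agent.H69.ZC.Pair

/-!
The case of two-rank at most two.
-/

set_option autoImplicit false
set_option linter.style.haveILetI false

namespace Cfsg.Agent.H69.ZC

open Subgroup Cfsg

variable {G : Type*} [Group G] [Finite G]

local notation "θ" => centralizerPPrimeCore 2

omit [Finite G] in
theorem ncard_four {a b : G} (ha : a ≠ 1) (hb : b ≠ 1) (ha2 : a ^ 2 = 1) (hab : a ≠ b) :
    ({1, a, b, a * b} : Set G).ncard = 4 := by
  rw [Set.ncard_eq_succ (Set.toFinite _)]
  refine ⟨1, {a, b, a * b}, ?_, rfl, ?_⟩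
  · simp only [Set.mem_insert_iff, Set.mem_singleton_iff]
    rintro (h | h | h)
    · exact ha h.symm
    · exact hb h.symm
    · exact hab (by rw [← mul_one a, h, ← mul_assoc, ← pow_two, ha2, one_mul])
  · refine Set.ncard_eq_three.mpr ⟨a, b, a * b, hab, ?_, ?_, rfl⟩
    · intro h; exact hb (mul_left_cancel (h.symm.trans (mul_one a).symm))
    · intro h; exact ha (mul_right_cancel (h.symm.trans (one_mul b).symm))

/-- In two-rank two an involution commuting with a four group lies in it. -/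
theorem mem_four (hr : PRankLE 2 2 G) {a b u : G} (ha : a ≠ 1) (hb : b ≠ 1) (ha2 : a ^ 2 = 1)
    (hb2 : b ^ 2 = 1) (hab : a ≠ b) (hcab : a * b = b * a) (hu2 : u ^ 2 = 1)
    (hua : u * a = a * u) (hub : u * b = b * u) : u = 1 ∨ u = a ∨ u = b ∨ u = a * b := by
  set E := closure ({a, b, u} : Set G) with hE
  have hcomm : ∀ x ∈ E, ∀ y ∈ E, Commute x y := by
    have hgen : ∀ x ∈ ({a, b, u} : Set G), ∀ y ∈ ({a, b, u} : Set G), Commute x y := by
      rintro x (rfl | rfl | rfl) y (rfl | rfl | rfl)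
      all_goals first
        | exact Commute.refl _
        | exact hcab | exact hcab.symm | exact hua | exact hua.symm | exact hub | exact hub.symm
    have h1 : ∀ y ∈ ({a, b, u} : Set G), ∀ x ∈ E, Commute x y := by
      intro y hy x hx
      induction hx using closure_induction with
      | mem x hx => exact hgen x hx y hy
      | one => exact Commute.one_left y
      | mul _ _ _ _ p q => exact p.mul_left q
      | inv _ _ p => exact p.inv_left
    intro x hx y hy
    induction hy using closure_induction with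
    | mem y hy => exact h1 y hy x hx
    | one => exact Commute.one_right x
    | mul _ _ _ _ p q => exact p.mul_right q
    | inv _ _ p => exact p.inv_right
  have hsq : ∀ x ∈ E, x ^ 2 = 1 := by
    intro x hx
    induction hx using closure_induction with
    | mem x hx => rcases hx with rfl | rfl | rfl <;> assumption
    | one => exact one_pow _
    | mul p q hp hq ihp ihq => rw [(hcomm p hp q hq).mul_pow, ihp, ihq, one_mul]
    | inv p _ ih => rw [inv_pow, ih, inv_one]
  have hcard : (E : Set G).ncard ≤ 4 := by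
    refine (Nat.card_coe_set_eq (E : Set G)).symm.trans_le ?_
    exact hr E ⟨⟨fun x y => Subtype.ext (hcomm x x.2 y y.2)⟩⟩ hsq
  have hsub : ({1, a, b, a * b} : Set G) ⊆ (E : Set G) := by
    have haE : a ∈ E := subset_closure (by simp)
    have hbE : b ∈ E := subset_closure (by simp)
    rintro x (rfl | rfl | rfl | rfl)
    exacts [one_mem _, haE, hbE, mul_mem haE hbE]
  have hu : u ∈ ({1, a, b, a * b} : Set G) := by
    rw [Set.eq_of_subset_of_ncard_le hsub (by rw [ncard_four ha hb ha2 hab]; exact hcard)]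
    exact subset_closure (by simp)
  simpa using hu

variable (hs : Setting G)
include hs

omit [Finite G] hs in
theorem conj_sq {g x : G} (h : x ^ 2 = 1) : (g * x * g⁻¹) ^ 2 = 1 := by
  rw [conj_pow, h, mul_one, mul_inv_cancel]

omit hs in
/-- The involution of a cyclic subgroup of index two is central in the Sylow subgroup. -/
theorem mem_zOne_of_cyclic (S : Sylow 2 G) {C : Subgroup G} (hCS : C ≤ (S : Subgroup G))
    (hC : IsCyclic ↥C) (hCi : C.relIndex (S : Subgroup G) = 2) {u : G} (hu : u ∈ C)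
    (hu2 : u ^ 2 = 1) : u ∈ zOne (S : Subgroup G) := by
  refine mem_zOne.mpr ⟨hCS hu, fun y hy => ?_, hu2⟩
  haveI : (C.subgroupOf (S : Subgroup G)).Normal := normal_of_index_eq_two hCi
  have hconj : y * u * y⁻¹ ∈ C := by
    have := Subgroup.Normal.conj_mem inferInstance
      (⟨u, hCS hu⟩ : ↥(S : Subgroup G)) (mem_subgroupOf.mpr hu) ⟨y, hy⟩
    simpa [mem_subgroupOf] using this
  by_cases hu1 : u = 1
  · subst hu1; simp
  have heq : (⟨y * u * y⁻¹, hconj⟩ : ↥C) = ⟨u, hu⟩ := by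
    haveI := hC
    have hone : y * u * y⁻¹ ≠ 1 := fun h => hu1 (conj_eq_one_iff.mp h)
    haveI : Fintype ↥C := Fintype.ofFinite _
    classical
    have hle : (Finset.univ.filter fun c : ↥C => c ^ 2 = 1).card ≤ 2 :=
      IsCyclic.card_pow_eq_one_le two_pos
    by_contra hne
    have hsub : ({1, ⟨u, hu⟩, ⟨y * u * y⁻¹, hconj⟩} : Finset ↥C) ⊆
        Finset.univ.filter fun c : ↥C => c ^ 2 = 1 := by
      intro c hc
      simp only [Finset.mem_insert, Finset.mem_singleton] at hc
      simp only [Finset.mem_filter, Finset.mem_univ, true_and]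
      rcases hc with rfl | rfl | rfl
      · exact one_pow _
      · exact Subtype.ext hu2
      · exact Subtype.ext (conj_sq hu2)
    have h3 : ({1, ⟨u, hu⟩, ⟨y * u * y⁻¹, hconj⟩} : Finset ↥C).card = 3 :=
      Finset.card_eq_three.mpr ⟨1, ⟨u, hu⟩, ⟨y * u * y⁻¹, hconj⟩,
        fun h => hu1 (congrArg Subtype.val h).symm, fun h => hone (congrArg Subtype.val h).symm,
        Ne.symm hne, rfl⟩
    have := Finset.card_le_card hsub
    omega
  exact mul_inv_eq_iff_eq_mul.mp (congrArg Subtype.val heq)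

/-- In two-rank two one of the alternatives holds. -/
theorem Setting.rank_two (hr : PRankLE 2 2 G) (S : Sylow 2 G) :
    (∃ M : Subgroup ↥(Cfsg.pResidual 2 G), Cfsg.IsStronglyEmbedded M) ∨ (Nat.card ↥(Cfsg.omegaOne 2 ((S : Subgroup G) ⊓ Subgroup.centralizer ((S : Subgroup G) : Set G)) ⊓ Cfsg.pResidual 2 G) = 2 ∧ ∀ h ∈ Cfsg.pResidual 2 G, ∀ z ∈ Cfsg.omegaOne 2 ((S : Subgroup G) ⊓ Subgroup.centralizer ((S : Subgroup G) : Set G)) ⊓ Cfsg.pResidual 2 G, h * z * h⁻¹ ∈ (S : Subgroup G) → h * z * h⁻¹ ∈ Cfsg.omegaOne 2 ((S : Subgroup G) ⊓ Subgroup.centralizer ((S : Subgroup G) : Set G))) ∨ (Nat.card ↥(Cfsg.omegaOne 2 ((S : Subgroup G) ⊓ Subgroup.centralizer ((S : Subgroup G) : Set G))) = 4 ∧ Cfsg.omegaOne 2 ((S : Subgroup G) ⊓ Cfsg.pResidual 2 G) = Cfsg.omegaOne 2 ((S : Subgroup G) ⊓ Subgroup.centralizer ((S : Subgroup G) : Set G))) ∨ Cfsg.IsCharacteristicTwoType ↥(Cfsg.pResidual 2 G ⊔ Cfsg.omegaOne 2 ((S : Subgroup G) ⊓ Subgroup.centralizer ((S : Subgroup G) : Set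 G))) := by
  classical
  haveI : Fact (Nat.Prime 2) := ⟨Nat.prime_two⟩
  haveI := res_normal G
  obtain ⟨z, hzZ, hzH, hz1⟩ := hs.exists_zOne_res S
  obtain ⟨hzS, hzc, hz2⟩ := mem_zOne.mp hzZ
  by_cases hbig : ∃ w ∈ zOne (S : Subgroup G), w ≠ 1 ∧ w ≠ z
  · obtain ⟨w, hwZ, hw1, hwz⟩ := hbig
    obtain ⟨hwS, hwc, hw2⟩ := mem_zOne.mp hwZ
    have hzw : z * w = w * z := hwc z hzS
    have hinvS : ∀ u ∈ (S : Subgroup G), u ^ 2 = 1 → u ∈ zOne (S : Subgroup G) := by
      intro u hu hu2
      rcases mem_four hr hz1 hw1 hz2 hw2 (Ne.symm hwz) hzw hu2 (hzc u hu) (hwc u hu) with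
        h | h | h | h <;> rw [h]
      exacts [one_mem _, hzZ, hwZ, mul_mem hzZ hwZ]
    have hset : (zOne (S : Subgroup G) : Set G) = {1, z, w, z * w} := by
      ext u
      refine ⟨fun hu => ?_, ?_⟩
      · obtain ⟨huS, -, hu2⟩ := mem_zOne.mp hu
        simpa using mem_four hr hz1 hw1 hz2 hw2 (Ne.symm hwz) hzw hu2 (hzc u huS) (hwc u huS)
      · rintro (rfl | rfl | rfl | rfl)
        exacts [one_mem _, hzZ, hwZ, mul_mem hzZ hwZ]
    have hcard : Nat.card ↥(zOne (S : Subgroup G)) = 4 := by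
      refine (Nat.card_coe_set_eq (zOne (S : Subgroup G) : Set G)).trans ?_
      rw [hset, ncard_four hz1 hw1 hz2 (Ne.symm hwz)]
    by_cases hle : zOne (S : Subgroup G) ≤ res G
    · refine Or.inr (Or.inr (Or.inl ⟨hcard, le_antisymm ?_ ?_⟩))
      · exact (closure_le _).mpr fun u hu => hinvS u hu.1.1 hu.2
      · exact fun u hu => subset_closure
          ⟨⟨(mem_zOne.mp hu).1, hle hu⟩, (mem_zOne.mp hu).2.2⟩
    · refine Or.inr (Or.inl ⟨?_, ?_⟩)
      · show Nat.card ↥(zOne (S : Subgroup G) ⊓ res G) = 2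
        have hdvd : Nat.card ↥(zOne (S : Subgroup G) ⊓ res G) ∣ 2 ^ 2 := by
          have h := card_dvd_of_le (inf_le_left : zOne (S : Subgroup G) ⊓ res G ≤ zOne (S : Subgroup G))
          rwa [hcard] at h
        obtain ⟨i, hi, hie⟩ := (Nat.dvd_prime_pow Nat.prime_two).mp hdvd
        have hne4 : Nat.card ↥(zOne (S : Subgroup G) ⊓ res G) ≠ 4 := fun h => hle
          ((Subgroup.eq_of_le_of_card_ge inf_le_left (by rw [h, hcard])).ge.trans inf_le_right)
        have hne1 : Nat.card ↥(zOne (S : Subgroup G) ⊓ res G) ≠ 1 := fun h => hz1 (by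
          have hm : z ∈ zOne (S : Subgroup G) ⊓ res G := ⟨hzZ, hzH⟩
          rwa [Subgroup.card_eq_one.mp h, mem_bot] at hm)
        match i, hi, hie with
        | 0, _, e => exact absurd (e.trans (pow_zero 2)) hne1
        | 1, _, e => exact e.trans (pow_one 2)
        | 2, _, e => exact absurd (e.trans (by norm_num)) hne4
        | n + 3, h, _ => omega
      · intro h _ v hv hmem
        exact hinvS _ hmem (conj_sq (mem_zOne.mp hv.1).2.2)
  push Not at hbig
  have hZ : ∀ w, w ∈ zOne (S : Subgroup G) ↔ w = 1 ∨ w = z := fun w =>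
    ⟨fun hw => or_iff_not_imp_left.mpr (hbig w hw), by rintro (rfl | rfl); exacts [one_mem _, hzZ]⟩
  have hZH : zOne (S : Subgroup G) ≤ res G := fun w hw => by
    rcases (hZ w).mp hw with rfl | rfl
    exacts [one_mem _, hzH]
  by_cases hwc : ∀ h ∈ res G, ∀ v ∈ zOne (S : Subgroup G) ⊓ res G,
      h * v * h⁻¹ ∈ (S : Subgroup G) → h * v * h⁻¹ ∈ zOne (S : Subgroup G)
  · refine Or.inr (Or.inl ⟨?_, hwc⟩)
    show Nat.card ↥(zOne (S : Subgroup G) ⊓ res G) = 2
    rw [inf_eq_left.mpr hZH]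
    refine (Nat.card_coe_set_eq (zOne (S : Subgroup G) : Set G)).trans ?_
    rw [show (zOne (S : Subgroup G) : Set G) = {1, z} from Set.ext fun w => by simpa using hZ w]
    exact Set.ncard_pair hz1.symm
  push Not at hwc
  obtain ⟨k, hk, v, hv, hsS, hsZ⟩ := hwc
  obtain rfl : v = z := by
    rcases (hZ v).mp hv.1 with h | h
    · exfalso
      apply hsZ
      rw [h, mul_one, mul_inv_cancel]
      exact one_mem _
    · exact h
  rename' v => z
  set s := k * z * k⁻¹ with hsdef
  have hsH : s ∈ res G := Subgroup.Normal.conj_mem inferInstance z hzH k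
  have hs2 : s ^ 2 = 1 := conj_sq hz2
  have hs1 : s ≠ 1 := fun h => hz1 (conj_eq_one_iff.mp h)
  have hsz : s ≠ z := fun h => hsZ (by rw [h]; exact hzZ)
  have hzs : z * s = s * z := (hzc s hsS).symm
  have hinv : ∀ u ∈ (S : Subgroup G), u * s = s * u → u ^ 2 = 1 →
      u = 1 ∨ u = z ∨ u = s ∨ u = z * s := fun u hu hus hu2 =>
    mem_four hr hz1 hs1 hz2 hs2 hsz.symm hzs hu2 (hzc u hu) hus
  obtain ⟨⟨x, hxz⟩, hpair⟩ := hs.pair S hZ hz1 hsdef.symm hsS hsz hinv
  set Q : Subgroup G := (S : Subgroup G) ⊓ centralizer ({s} : Set G) with hQ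
  have hQmem : ∀ c, c ∈ Q ↔ c ∈ (S : Subgroup G) ∧ c * s = s * c := fun c => by
    rw [hQ, mem_inf, mem_centralizer_singleton_iff]
  have hfour : ∀ u ∈ Q, u ^ 2 = 1 → u ≠ 1 → ∃ g : G, g * z * g⁻¹ = u := by
    intro u hu hu2 hu1
    rcases hinv u ((hQmem u).mp hu).1 ((hQmem u).mp hu).2 hu2 with h | h | h | h
    · exact absurd h hu1
    · exact ⟨1, by rw [h]; group⟩
    · exact ⟨k, h.symm⟩
    · exact ⟨x, h ▸ hxz⟩
  -- every involution of the residual is conjugate to `z`
  have hclaimS : ∀ u ∈ (S : Subgroup G), u ∈ res G → orderOf u = 2 → ∃ g : G, g * z * g⁻¹ = u := by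
    intro u huS huH hu
    obtain ⟨hu1, hu2⟩ := ne_one_of_orderOf hu
    suffices h : ∃ g v : G, g * u * g⁻¹ = v ∧ ∃ g' : G, g' * z * g'⁻¹ = v by
      obtain ⟨g, v, hgv, g', hg'⟩ := h
      refine ⟨g⁻¹ * g', ?_⟩
      calc g⁻¹ * g' * z * (g⁻¹ * g')⁻¹ = g⁻¹ * (g' * z * g'⁻¹) * g := by group
        _ = u := by rw [hg', ← hgv]; group
    by_cases h4 : Nat.card ↥Q = 4
    · obtain ⟨C, hCS, hC, hCi⟩ := hs.pair_cyclic S hZ hz1 hsdef.symm hsS hsz hinv h4
      obtain ⟨g, hg⟩ := hs.fuse S hCS hCi hu huS huH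
      refine ⟨g, _, rfl, 1, ?_⟩
      rcases (hZ _).mp (mem_zOne_of_cyclic S hCS hC hCi hg (conj_sq hu2)) with h | h
      · exact absurd (conj_eq_one_iff.mp h) hu1
      · rw [h]; group
    by_cases hfull : ∀ y ∈ (S : Subgroup G), y * s * y⁻¹ = s ∨ y * s * y⁻¹ = z * s
    · have hQi : Q.relIndex (S : Subgroup G) = 2 := by
        have hne : ∃ a ∈ (S : Subgroup G), a * s * a⁻¹ ≠ s := by
          by_contra hcon
          push Not at hcon
          exact hsZ (mem_zOne.mpr ⟨hsS, fun y hy => mul_inv_eq_iff_eq_mul.mp (hcon y hy), hs2⟩)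
        obtain ⟨a, haS, has⟩ := hne
        have haz : a * s * a⁻¹ = z * s := (hfull a haS).resolve_left has
        have hzz : a * (z * s) * a⁻¹ = s := by
          calc a * (z * s) * a⁻¹ = a * z * a⁻¹ * (a * s * a⁻¹) := by group
            _ = z * (z * s) := by rw [hzc a haS, haz, mul_inv_cancel_right]
            _ = s := by rw [← mul_assoc, ← pow_two, hz2, one_mul]
        refine relIndex_eq_two_iff.mpr ⟨a, haS, fun b hb => ?_⟩
        have hQ' : ∀ c ∈ (S : Subgroup G), (c ∈ Q ↔ c * s * c⁻¹ = s) := fun c hc => by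
          rw [hQmem, mul_inv_eq_iff_eq_mul]; exact ⟨fun h => h.2, fun h => ⟨hc, h⟩⟩
        rw [hQ' b hb, hQ' (b * a) (mul_mem hb haS)]
        have hba : b * a * s * (b * a)⁻¹ = b * (z * s) * b⁻¹ := by rw [← haz]; group
        have hbz : b * (z * s) * b⁻¹ = z * (b * s * b⁻¹) := by
          calc b * (z * s) * b⁻¹ = b * z * b⁻¹ * (b * s * b⁻¹) := by group
            _ = z * (b * s * b⁻¹) := by rw [hzc b hb, mul_inv_cancel_right]
        rw [hba, hbz]
        have hzs_ne : z * s ≠ s := fun h => hz1 (mul_eq_right.mp h)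
        rcases hfull b hb with h | h
        · rw [h]; exact Or.inr ⟨rfl, hzs_ne⟩
        · rw [h, ← mul_assoc, ← pow_two, hz2, one_mul]; exact Or.inl ⟨rfl, hzs_ne⟩
      obtain ⟨g, hg⟩ := hs.fuse S inf_le_left hQi hu huS huH
      exact ⟨g, _, rfl, hfour _ hg (conj_sq hu2) (fun h => hu1 (conj_eq_one_iff.mp h))⟩
    exfalso
    push Not at hfull
    let N : Subgroup G :=
      { carrier := {y | y ∈ (S : Subgroup G) ∧ (y * s * y⁻¹ = s ∨ y * s * y⁻¹ = z * s)}
        one_mem' := ⟨one_mem _, Or.inl (by group)⟩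
        mul_mem' := by
          rintro a b ⟨ha, ha'⟩ ⟨hb, hb'⟩
          refine ⟨mul_mem ha hb, ?_⟩
          have e : a * b * s * (a * b)⁻¹ = a * (b * s * b⁻¹) * a⁻¹ := by group
          have e' : a * (z * s) * a⁻¹ = z * (a * s * a⁻¹) := by
            calc a * (z * s) * a⁻¹ = a * z * a⁻¹ * (a * s * a⁻¹) := by group
              _ = _ := by rw [hzc a ha, mul_inv_cancel_right]
          rcases hb' with h | h
          · rw [e, h]; exact ha'
          · rw [e, h, e']
            rcases ha' with h' | h' <;> rw [h']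
            · exact Or.inr rfl
            · exact Or.inl (by rw [← mul_assoc, ← pow_two, hz2, one_mul])
        inv_mem' := by
          rintro a ⟨ha, ha'⟩
          refine ⟨inv_mem ha, ?_⟩
          rcases ha' with h | h
          · left
            nth_rw 1 [← h]
            group
          · right
            have h2 : a⁻¹ * (z * s) * a⁻¹⁻¹ = s := by rw [← h]; group
            have e' : a⁻¹ * (z * s) * a⁻¹⁻¹ = z * (a⁻¹ * s * a⁻¹⁻¹) := by
              calc a⁻¹ * (z * s) * a⁻¹⁻¹ = a⁻¹ * z * a⁻¹⁻¹ * (a⁻¹ * s * a⁻¹⁻¹) := by group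
                _ = _ := by rw [hzc _ (inv_mem ha), mul_inv_cancel_right]
            rw [e'] at h2
            calc a⁻¹ * s * a⁻¹⁻¹ = z ^ 2 * (a⁻¹ * s * a⁻¹⁻¹) := by rw [hz2, one_mul]
              _ = z * (z * (a⁻¹ * s * a⁻¹⁻¹)) := by rw [pow_two, mul_assoc]
              _ = z * s := by rw [h2] }
    have hNmem : ∀ y, y ∈ N ↔ y ∈ (S : Subgroup G) ∧ (y * s * y⁻¹ = s ∨ y * s * y⁻¹ = z * s) :=
      fun _ => Iff.rfl
    have hQN : Q ≤ N := fun q hq => (hNmem q).mpr
      ⟨((hQmem q).mp hq).1, Or.inl (mul_inv_eq_iff_eq_mul.mpr ((hQmem q).mp hq).2)⟩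
    obtain ⟨y0, hy0, hy0a, hy0b⟩ := hfull
    have hNlt : N < (S : Subgroup G) := lt_of_le_of_ne (fun y hy => ((hNmem y).mp hy).1)
      fun he => ((hNmem y0).mp (he ▸ hy0)).2.elim hy0a hy0b
    obtain ⟨y, hyS, hyN, hyn⟩ := exists_normalizing_outside S.isPGroup' hNlt
    set a := y * s * y⁻¹ with hadef
    have hsN : s ∈ N := hQN ((hQmem s).mpr ⟨hsS, rfl⟩)
    have haN : a ∈ N := hyn s hsN
    obtain ⟨haS, haflip⟩ := (hNmem a).mp haN
    have haza : a * s * a⁻¹ = z * s := by
      refine haflip.resolve_left fun h => hyN ((hNmem y).mpr ⟨hyS, ?_⟩)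
      have haQ : a ∈ Q := (hQmem a).mpr ⟨haS, mul_inv_eq_iff_eq_mul.mp h⟩
      rcases hinv a haS ((hQmem a).mp haQ).2 (conj_sq hs2) with h' | h' | h' | h'
      · exact absurd (conj_eq_one_iff.mp h') hs1
      · exfalso
        refine hsz ?_
        calc s = y⁻¹ * a * y := by rw [hadef]; group
          _ = y⁻¹ * z * y := by rw [h']
          _ = z := by
            rw [mul_assoc, ← hzc y hyS, ← mul_assoc, inv_mul_cancel, one_mul]
      · exact Or.inl h'
      · exact Or.inr h'
    have hmove : ∀ q ∈ Q, q * a * q⁻¹ = a ∨ q * a * q⁻¹ = z * a := by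
      intro q hq
      obtain ⟨q', hq', hqq⟩ : ∃ q' ∈ N, y * q' * y⁻¹ = q := by
        have hfun : ∀ n : ↥N, y * (n : G) * y⁻¹ ∈ N := fun n => hyn n n.2
        have hinj : Function.Injective (fun n : ↥N => (⟨y * (n : G) * y⁻¹, hfun n⟩ : ↥N)) :=
          fun p r e => Subtype.ext (mul_left_cancel (mul_right_cancel (congrArg Subtype.val e)))
        obtain ⟨n, hn⟩ := Finite.surjective_of_injective hinj ⟨q, hQN hq⟩
        exact ⟨n, n.2, congrArg Subtype.val hn⟩
      have e : q * a * q⁻¹ = y * (q' * s * q'⁻¹) * y⁻¹ := by rw [← hqq, hadef]; group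
      rcases ((hNmem q').mp hq').2 with h | h
      · left; rw [e, h]
      · right
        rw [e, h]
        calc y * (z * s) * y⁻¹ = y * z * y⁻¹ * a := by rw [hadef]; group
          _ = z * a := by rw [hzc y hyS, mul_inv_cancel_right]
    set Q0 : Subgroup G := Q ⊓ centralizer ({a} : Set G) with hQ0
    have hQ0mem : ∀ q ∈ Q, (q ∈ Q0 ↔ q * a * q⁻¹ = a) := fun q hq => by
      rw [hQ0, mem_inf, mem_centralizer_singleton_iff, mul_inv_eq_iff_eq_mul]
      exact ⟨fun h => h.2, fun h => ⟨hq, h⟩⟩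
    have hsQ : s ∈ Q := (hQmem s).mpr ⟨hsS, rfl⟩
    have hza_ne : z * a ≠ a := fun h => hz1 (mul_eq_right.mp h)
    have hsa : s * a * s⁻¹ = z * a := by
      have h1 : a * s = z * s * a := mul_inv_eq_iff_eq_mul.mp haza
      calc s * a * s⁻¹ = z * (z * s * a) * s⁻¹ := by rw [← mul_assoc z (z * s), ← mul_assoc z z,
            ← pow_two, hz2, one_mul]
        _ = z * (a * s) * s⁻¹ := by rw [h1]
        _ = z * a := by group
    have hsQ0 : s ∉ Q0 := fun h => hza_ne (hsa.symm.trans ((hQ0mem s hsQ).mp h))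
    have hQ0i : Q0.relIndex Q = 2 := by
      refine relIndex_eq_two_iff.mpr ⟨s, hsQ, fun b hb => ?_⟩
      rw [hQ0mem b hb, hQ0mem (b * s) (mul_mem hb hsQ)]
      have e : b * s * a * (b * s)⁻¹ = z * (b * a * b⁻¹) := by
        calc b * s * a * (b * s)⁻¹ = b * (s * a * s⁻¹) * b⁻¹ := by group
          _ = b * z * b⁻¹ * (b * a * b⁻¹) := by rw [hsa]; group
          _ = _ := by rw [hzc b ((hQmem b).mp hb).1, mul_inv_cancel_right]
      rw [e]
      rcases hmove b hb with h | h
      · rw [h]; exact Or.inr ⟨rfl, hza_ne⟩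
      · rw [h, ← mul_assoc, ← pow_two, hz2, one_mul]; exact Or.inl ⟨rfl, hza_ne⟩
    exact h4 (hpair Q0 inf_le_left hQ0i hsQ0)
  have hclaim : ∀ t : G, t ∈ res G → orderOf t = 2 → ∃ g : G, g * z * g⁻¹ = t := by
    intro t htH ht
    obtain ⟨g, hg⟩ := exists_conj_mem S ht
    obtain ⟨g', hg'⟩ := hclaimS _ hg (Subgroup.Normal.conj_mem inferInstance t htH g)
      ((orderOf_conj g t).trans ht)
    refine ⟨g⁻¹ * g', ?_⟩
    calc g⁻¹ * g' * z * (g⁻¹ * g')⁻¹ = g⁻¹ * (g' * z * g'⁻¹) * g := by group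
      _ = t := by rw [hg']; group
  -- the core of `z` is centralised by the Sylow subgroup
  set K := θ z with hK
  have hzord : orderOf z = 2 := orderOf_eq_two hz2 hz1
  have hKC : ∀ c ∈ K, c * z = z * c := by
    rintro c ⟨c', -, rfl⟩
    exact mem_centralizer_singleton_iff.mp c'.2
  have hKS : ∀ y ∈ (S : Subgroup G), ∀ c ∈ K, y * c = c * y := by
    intro y hy c hc
    have hcN : c ∈ normalizer ((S : Subgroup G) : Set G) :=
      hs.norm S (mem_centralizer_iff.mpr fun w hw => by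
        rcases (hZ w).mp hw with rfl | rfl
        · simp
        · exact (hKC c hc).symm)
    have hy' : y * c * y⁻¹ ∈ K := by
      have h := mem_map_of_mem (MulAut.conj y).toMonoidHom hc
      rwa [hK, core_conj, show y * z * y⁻¹ = z by rw [hzc y hy, mul_inv_cancel_right]] at h
    set d := y * c * y⁻¹ * c⁻¹
    have hdK : d ∈ K := mul_mem hy' (inv_mem hc)
    have hdS : d ∈ (S : Subgroup G) := by
      rw [show d = y * (c * y⁻¹ * c⁻¹) by simp only [d]; group]
      exact mul_mem hy ((mem_normalizer_iff.mp hcN _).mp (inv_mem hy))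
    have hd1 : d = 1 := by
      have h1 : Odd (orderOf d) := (core_odd z).of_dvd_nat (by
        rw [show orderOf d = orderOf (⟨d, hdK⟩ : ↥K) from Subgroup.orderOf_coe (⟨d, hdK⟩ : ↥K)]
        exact orderOf_dvd_natCard _)
      obtain ⟨i, hi⟩ := IsPGroup.iff_orderOf.mp S.isPGroup' ⟨d, hdS⟩
      rw [Subgroup.orderOf_mk] at hi
      cases i with
      | zero => exact orderOf_eq_one_iff.mp (by simpa using hi)
      | succ i => rw [hi] at h1; exact absurd h1 (by simp [Nat.even_pow, parity_simps])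
    exact mul_inv_eq_iff_eq_mul.mp (mul_inv_eq_one.mp hd1)
  have hcoreS : ∀ u ∈ (S : Subgroup G), u ∈ res G → orderOf u = 2 → θ u = K := by
    intro u huS huH hu
    have hle : K ≤ θ u := fun c hc => hs.balance hzord hu (hzc u huS).symm
      ⟨hc, mem_centralizer_singleton_iff.mpr (hKS u huS c hc).symm⟩
    obtain ⟨g, hg⟩ := hclaim u huH hu
    refine (Subgroup.eq_of_le_of_card_ge hle (le_of_eq ?_)).symm
    rw [← hg, ← core_conj]
    exact card_map_of_injective (MulAut.conj g).injective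
  set M := normalizer (K : Set G) with hM
  have hSM : (S : Subgroup G) ≤ M := by
    intro y hy
    rw [hM, mem_normalizer_iff]
    intro c
    refine ⟨fun hc => by rwa [hKS y hy c hc, mul_inv_cancel_right], fun hc => ?_⟩
    have h := hKS y hy _ hc
    have e : c = y⁻¹ * (y * c * y⁻¹) * y := by group
    rw [e, mul_assoc, ← h, ← mul_assoc, inv_mul_cancel, one_mul]
    exact hc
  by_cases htop : M = ⊤
  · refine Or.inr (Or.inr (Or.inr (hs.charTwo S fun t ht htX => ?_)))
    have hKn : K.Normal := normalizer_eq_top_iff.mp htop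
    have hK1 : K = ⊥ := le_bot_iff.mp ((H51.le_pPrimeCore hKn
      (Nat.coprime_two_right.mpr (core_odd z))).trans hs.odd.le)
    rw [sup_eq_left.mpr hZH] at htX
    obtain ⟨g, hg⟩ := exists_conj_mem S ht
    refine core_eq_bot_conj (g := g) ?_
    rw [hcoreS _ hg (Subgroup.Normal.conj_mem inferInstance t htX g) ((orderOf_conj g t).trans ht)]
    exact hK1
  refine Or.inl (hs.stronglyEmbedded S htop hSM ?_)
  have hcoreM : ∀ r : G, r ∈ res G → r ∈ M → orderOf r = 2 → θ r = K := by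
    intro r hrH hrM hr2
    set T : Sylow 2 ↥M := S.subtype hSM
    have hp : IsPGroup 2 ↥(zpowers (⟨r, hrM⟩ : ↥M)) :=
      H51.isPGroup_zpowers_of_orderOf (by rw [Subgroup.orderOf_mk]; exact hr2)
    obtain ⟨R, hR⟩ := hp.exists_le_sylow
    obtain ⟨m, hm⟩ := MulAction.exists_smul_eq (↥M) R T
    have hmem : (m : G) * r * (m : G)⁻¹ ∈ (S : Subgroup G) := by
      have h : m * (⟨r, hrM⟩ : ↥M) * m⁻¹ ∈ (T : Subgroup ↥M) := by
        rw [← hm]; exact mem_map_of_mem _ (hR (mem_zpowers _))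
      exact h
    have h1 := hcoreS _ hmem (Subgroup.Normal.conj_mem inferInstance r hrH (m : G))
      ((orderOf_conj _ r).trans hr2)
    rw [← core_conj] at h1
    refine map_injective (f := (MulAut.conj (m : G)).toMonoidHom) (MulAut.conj (m : G)).injective ?_
    rw [h1]
    ext c
    constructor
    · intro hc
      refine ⟨(m : G)⁻¹ * c * m, ?_, by simp [mul_assoc]⟩
      have := (mem_normalizer_iff.mp (inv_mem m.2) c).mp hc
      simpa using this
    · rintro ⟨c', hc', rfl⟩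
      exact (mem_normalizer_iff.mp m.2 c').mp hc'
  intro r hrH hrM hr2 g hg
  have h1 := hcoreM r hrH hrM hr2
  have hrH' : g⁻¹ * r * g ∈ res G := by
    simpa using Subgroup.Normal.conj_mem inferInstance r hrH g⁻¹
  have hord' : orderOf (g⁻¹ * r * g) = 2 := by
    have := orderOf_conj g⁻¹ r
    rw [inv_inv] at this
    exact this.trans hr2
  have h2 := hcoreM _ hrH' hg hord'
  have h3 : K.map (MulAut.conj g).toMonoidHom = K := by
    conv_lhs => rw [← h2]
    rw [core_conj, show g * (g⁻¹ * r * g) * g⁻¹ = r by group, h1]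
  rw [hM, mem_normalizer_iff]
  intro c
  constructor
  · intro hc
    have := mem_map_of_mem (MulAut.conj g).toMonoidHom hc
    rwa [h3] at this
  · intro hc
    rw [← h3] at hc
    obtain ⟨c', hc', he⟩ := hc
    exact (MulAut.conj g).injective he ▸ hc'

end Cfsg.Agent.H69.ZC
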